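import Cfsg.Prelude.Def_Spor_Ly

/-!
The values of all the generators of the presented Lyons group in terms of five of them.
-/

set_option autoImplicit false

namespace CfsgLib.KnownB.LyMult

open Cfsg.Spor

/-- the values of the generators, given the five main ones -/
def val {G : Type*} [Group G] (a b c d z : G) : Ly.Gen → G
  | .a => a
  | .b => b
  | .c => c
  | .d => d
  | .z => z
  | .e => (((b ^ 2)⁻¹) * (a⁻¹ * (c)⁻¹ * a * (c)) * (a⁻¹) * (c) * a * d * (c) * b * a * (b⁻¹) * d * (c) * d)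
  | .a1 => a
  | .a2 => ((b⁻¹)⁻¹ * a * (b⁻¹))
  | .a3 => (((b ^ 2)⁻¹)⁻¹ * a * ((b ^ 2)⁻¹))
  | .a4 => ((b ^ 2)⁻¹ * a * (b ^ 2))
  | .c1 => c
  | .c2 => (a⁻¹ * c * a)
  | .c3 => (b⁻¹ * c * b)
  | .c4 => ((b⁻¹)⁻¹ * c * (b⁻¹))
  | .c5 => ((c)⁻¹ * ((a⁻¹ * c * a))⁻¹ * (c) * ((a⁻¹ * c * a)))
  | .u => (a ^ 2)
  | .x23 => d
  | .x24 => (d⁻¹)
  | .x25 => ((b ^ 2) * (a⁻¹) * (b⁻¹) * (a⁻¹) * (b ^ 2) * (c⁻¹) * a * c * (a⁻¹) * (c⁻¹) * d * (c⁻¹) * (b ^ 2) * (a⁻¹) * c * b)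
  | .x29 => (a * b * (a⁻¹) * (b ^ 2) * (a⁻¹) * (b ^ 2) * (c⁻¹) * a * c * b * c * (b⁻¹) * d * c * ((b ^ 2)⁻¹) * d * c * b * c)
  | .x47 => ((c⁻¹) * (d⁻¹) * (a⁻¹) * (c⁻¹) * (a⁻¹) * b * (c⁻¹) * (d⁻¹))
  | .x96 => (b * d)
  | .x129 => ((d⁻¹) * (b⁻¹))
  | .x162 => ((a⁻¹) * (b⁻¹) * (a⁻¹) * b * (c⁻¹) * (b⁻¹) * a * (c⁻¹) * b * a)
  | .x163 => (((b ^ 2)⁻¹) * a * c * (a⁻¹) * b * c * b)
  | .x164 => ((a⁻¹) * (b⁻¹) * (a⁻¹) * c * a * b * a)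
  | .x165 => ((b⁻¹) * (a⁻¹) * b * c * (b⁻¹) * a * b)
  | .x166 => ((b ^ 2) * (a⁻¹) * (b⁻¹) * c * b * a * c * ((b ^ 2)⁻¹) * (c⁻¹))
  | .x167 => ((a ^ 3)⁻¹)
  | .x168 => (b * (a⁻¹) * (b⁻¹) * ((a ^ 2)⁻¹))
  | .x169 => (a * (b ^ 2) * a * ((b ^ 2)⁻¹) * (a⁻¹))
  | .x364 => ((a⁻¹) * d * (b⁻¹) * (c⁻¹) * (a⁻¹) * b * (c⁻¹) * (d⁻¹) * b * (c⁻¹) * (b⁻¹) * (a⁻¹) * (c⁻¹) * a * (b⁻¹) * a * b * a * (b⁻¹))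
  | .x365 => (a * ((b ^ 2)⁻¹) * (a⁻¹) * c * b * (c⁻¹) * b * (a⁻¹) * ((c ^ 2)⁻¹) * d * c * a * c * (a⁻¹) * c * (b⁻¹) * (d⁻¹))
  | .x366 => (b * a * (b⁻¹) * (a⁻¹) * ((b ^ 2)⁻¹) * (a⁻¹) * (b⁻¹) * c * (b ^ 2) * c * b * d * c * ((b ^ 2)⁻¹) * d * c * b * c)
  | .x367 => ((c⁻¹) * (b⁻¹) * (c⁻¹) * (d⁻¹) * (b ^ 2) * (c⁻¹) * (d⁻¹) * (b⁻¹) * (c⁻¹) * ((b ^ 2)⁻¹) * (c⁻¹) * b * a * (b ^ 2) * a * b * (a⁻¹) * (b⁻¹))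
  | .x368 => ((a⁻¹) * (c⁻¹) * (d⁻¹) * a * (c⁻¹) * (b⁻¹) * a * (c⁻¹) * (d⁻¹) * (a⁻¹) * (c⁻¹) * a * c * ((b ^ 2)⁻¹) * (c⁻¹) * (b⁻¹) * (a⁻¹) * ((b ^ 2)⁻¹))
  | .x369 => ((a⁻¹) * (c⁻¹) * (d⁻¹) * b * (a⁻¹) * (b⁻¹) * (c⁻¹) * (d⁻¹) * b * (a⁻¹) * (b⁻¹) * (c⁻¹) * (b⁻¹) * a * ((b ^ 2)⁻¹) * a * (b⁻¹))
  | .x370 => ((d⁻¹) * a * c * b * c * (a⁻¹) * (c⁻¹) * (d⁻¹) * a * (b⁻¹) * (a⁻¹) * c * (a⁻¹) * ((b ^ 2)⁻¹) * (a⁻¹) * b * (a⁻¹))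
  | .x371 => ((c⁻¹) * (a⁻¹) * c * b * (c⁻¹) * (d⁻¹) * c * (a⁻¹) * c * a * c * (b⁻¹) * (a⁻¹) * (b⁻¹) * (a⁻¹) * b)

theorem map_val {G G' : Type*} [Group G] [Group G'] (φ : G →* G') (a b c d z : G) (g : Ly.Gen) :
    φ (val a b c d z g) = val (φ a) (φ b) (φ c) (φ d) (φ z) g := by
  cases g <;> simp only [val, map_mul, map_inv, map_pow]

/-- a generator of the presented group -/
def gn (g : Ly.Gen) : Cfsg.Spor.Ly := PresentedGroup.of g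

theorem rel_one {r : FreeGroup Ly.Gen} (h : r ∈ Ly.extra) : FreeGroup.lift gn r = 1 := by
  have e : FreeGroup.lift gn = PresentedGroup.mk (coxRelators Ly.edges ∪ {r | r ∈ Ly.extra}) :=
    FreeGroup.ext_hom _ _ fun g => by rw [FreeGroup.lift_apply_of]; rfl
  rw [e]
  exact PresentedGroup.one_of_mem (Or.inr h)

theorem gn_eq_val (g : Ly.Gen) : gn g = val (gn .a) (gn .b) (gn .c) (gn .d) (gn .z) g := by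
  have h := fun (r : FreeGroup Ly.Gen) (hr : r ∈ Ly.extra) => rel_one hr
  simp only [Ly.extra, List.forall_mem_cons, List.not_mem_nil, false_imp_iff, forall_const, and_true,
    Ly.a, Ly.b, Ly.c, Ly.d, Ly.z, Ly.e, Ly.a1, Ly.a2, Ly.a3, Ly.a4, Ly.c1, Ly.c2, Ly.c3, Ly.c4, Ly.c5, Ly.u,
    Ly.x23, Ly.x24, Ly.x25, Ly.x29, Ly.x47, Ly.x96, Ly.x129, Ly.x162, Ly.x163, Ly.x164, Ly.x165, Ly.x166,
    Ly.x167, Ly.x168, Ly.x169, Ly.x364, Ly.x365, Ly.x366, Ly.x367, Ly.x368, Ly.x369, Ly.x370, Ly.x371,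
    map_mul, map_pow, map_inv, FreeGroup.lift_apply_of, mul_inv_eq_one] at h
  obtain ⟨-, -, -, -, -, h6, h7, h8, h9, h10, -, -, -, -, -, -, -, -, -, -, -, -, -, -, -, -, -, -, h29, -, -, -,
    -, -, -, -, -, -, -, -, -, -, -, -, h45, h46, h47, h48, h49, h50, h51, h52, h53, h54, h55, h56, h57, h58,
    h59, h60, h61, h62, h63, h64, h65, h66, h67, h68, h69, h70, h71, h72, -⟩ := h
  cases g <;> simp only [val] <;>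
    first
      | rfl
      | (simp only [h6, h7, h8, h9, h10, h29, h45, h46, h47, h48, h49, h50, h51, h52, h53, h54, h55, h56, h57,
          h58, h59, h60, h61, h62, h63, h64, h65, h66, h67, h68, h69, h70, h71, h72])

end CfsgLib.KnownB.LyMult
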