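import Mathlib

/-!
Lifts to a central extension of the relations by which the extra generator of the Lyons group
conjugates eight elements of `G₂(5)`: the central errors vanish.
-/

set_option autoImplicit false

namespace CfsgLib.KnownB.LyMult

variable {E : Type*} [Group E]

/-- a conjugation relation with a central error -/
def Conj (z p q e : E) : Prop := z⁻¹ * p * z = q * e

theorem Conj.mul {z p q e p' q' e' : E} (he : ∀ g, Commute g e) (h : Conj z p q e)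
    (h' : Conj z p' q' e') : Conj z (p * p') (q * q') (e * e') := by
  unfold Conj at *
  calc z⁻¹ * (p * p') * z = (z⁻¹ * p * z) * (z⁻¹ * p' * z) := by group
    _ = q * (e * q') * e' := by rw [h, h']; group
    _ = q * q' * (e * e') := by rw [← (he q').eq]; group

theorem Conj.inv {z p q e : E} (he : ∀ g, Commute g e) (h : Conj z p q e) :
    Conj z p⁻¹ q⁻¹ e⁻¹ := by
  unfold Conj at *
  rw [show z⁻¹ * p⁻¹ * z = (z⁻¹ * p * z)⁻¹ by group, h, mul_inv_rev, ((he q⁻¹).inv_right).eq]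

theorem Conj.pow {z p q e : E} (he : ∀ g, Commute g e) (h : Conj z p q e) :
    ∀ n : ℕ, Conj z (p ^ n) (q ^ n) (e ^ n)
  | 0 => by simp [Conj]
  | n + 1 => by
    rw [pow_succ, pow_succ, pow_succ]
    exact (Conj.pow he h n).mul (fun g => (he g).pow_right n) h

theorem Conj.unique {z p q q' e e' : E} (h : Conj z p q e) (h' : Conj z p q' e') (hq : q = q') :
    e = e' := by
  subst hq
  exact mul_left_cancel (h.symm.trans h')

/-- The eight errors vanish. The hypotheses are relations among lifts of the elements `a₁, a₂, a₃, a₄`,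
`c₁, …, c₅` of `⟨a, b, c, d⟩` and of their conjugates under `z`, which hold exactly, and two central
relators with unknown values. -/
theorem errors_eq_one (z u a1 a2 a3 a4 c1 c2 c3 c4 c5 B2 B3 C1 C2 C3 C4 C5 : E)
    (e1 e2 e3 f1 f2 f3 f4 f5 ζ81 ζ82 : E)
    (cen : ∀ x ∈ [e1, e2, e3, f1, f2, f3, f4, f5, ζ81, ζ82], ∀ g, Commute g x)
    (ha1 : Conj z a1 (a1 ^ 3)⁻¹ e1) (ha2 : Conj z a2 B2 e2) (ha3 : Conj z a3 B3 e3)
    (hc1 : Conj z c1 C1 f1) (hc2 : Conj z c2 C2 f2) (hc3 : Conj z c3 C3 f3) (hc4 : Conj z c4 C4 f4)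
    (hc5 : Conj z c5 C5 f5) (hz : z ^ 2 = u * ζ81) (hu : u = a1 ^ 2)
    (h82 : (a4 * z) ^ 3 * u = ζ82) (h8 : a1 ^ 8 = 1) (h4 : a4⁻¹ * a1 * a4 = a1 ^ 5)
    (b12 : a1 * a2 * a1 = a2 * a1 * a2) (b23 : a2 * a3 * a2 = a3 * a2 * a3)
    (B12 : (a1 ^ 3)⁻¹ * B2 * (a1 ^ 3)⁻¹ = B2 * (a1 ^ 3)⁻¹ * B2)
    (B23 : B2 * B3 * B2 = B3 * B2 * B3)
    (p5 : c1 ^ 5 = 1) (P5 : C1 ^ 5 = 1) (p35 : c3 ^ 5 = 1) (P35 : C3 ^ 5 = 1)
    (k2 : c2 = a1⁻¹ * c1 * a1) (K2 : C2 = ((a1 ^ 3)⁻¹)⁻¹ * C1 * (a1 ^ 3)⁻¹)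
    (k22 : a1⁻¹ * c2 * a1 = (c1 ^ 2)⁻¹) (K22 : ((a1 ^ 3)⁻¹)⁻¹ * C2 * (a1 ^ 3)⁻¹ = (C1 ^ 2)⁻¹)
    (k5 : c5 = c1⁻¹ * c2⁻¹ * c1 * c2) (K5 : C5 = C1⁻¹ * C2⁻¹ * C1 * C2)
    (k3 : a1⁻¹ * c3 * a1 = (c3 ^ 2)⁻¹ * c1 * c4)
    (K3 : ((a1 ^ 3)⁻¹)⁻¹ * C3 * (a1 ^ 3)⁻¹ = (C3 ^ 2)⁻¹ * C1 * C4)
    (k4 : a1⁻¹ * c4 * a1 = c1 * c2⁻¹ * c3⁻¹ * c4 * c1 * c4)
    (K4 : ((a1 ^ 3)⁻¹)⁻¹ * C4 * (a1 ^ 3)⁻¹ = C1 * C2⁻¹ * C3⁻¹ * C4 * C1 * C4) :
    e1 = 1 ∧ e2 = 1 ∧ e3 = 1 ∧ f1 = 1 ∧ f2 = 1 ∧ f3 = 1 ∧ f4 = 1 ∧ f5 = 1 := by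
  simp only [List.forall_mem_cons, List.not_mem_nil, false_imp_iff, forall_const, and_true] at cen
  obtain ⟨he1, he2, he3, hf1, hf2, hf3, hf4, hf5, h81c, h82c⟩ := cen
  -- `z²` centralises `a₁`
  have hsq : e1 ^ 2 = 1 := by
    have h := (ha1.pow he1 3).inv (fun g => (he1 g).pow_right 3)
    unfold Conj at h ha1
    have e : z⁻¹ * (z⁻¹ * a1 * z) * z = a1 := by
      calc z⁻¹ * (z⁻¹ * a1 * z) * z = (z ^ 2)⁻¹ * a1 * z ^ 2 := by rw [pow_two]; group
        _ = ζ81⁻¹ * (a1 ^ 2)⁻¹ * a1 * (a1 ^ 2 * ζ81) := by rw [hz, hu, mul_inv_rev]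
        _ = ζ81⁻¹ * (a1 * ζ81) := by group
        _ = a1 := by rw [(h81c a1).eq, inv_mul_cancel_left]
    rw [ha1, show z⁻¹ * ((a1 ^ 3)⁻¹ * e1) * z = z⁻¹ * (a1 ^ 3)⁻¹ * (e1 * z) by group,
      ← (he1 z).eq, ← mul_assoc, h] at e
    have h9 : ((a1 ^ 3)⁻¹ ^ 3)⁻¹ = a1 := by
      rw [inv_pow, inv_inv, ← pow_mul, show 3 * 3 = 8 + 1 from rfl, pow_succ, h8, one_mul]
    rw [h9, mul_assoc, mul_eq_left] at e
    have : (e1 ^ 3)⁻¹ * e1 = (e1 ^ 2)⁻¹ := by rw [pow_succ' e1 2]; group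
    rwa [this, inv_eq_one] at e
  have h1 : e1 = 1 := by
    have step : (a4 * z)⁻¹ * a1 * (a4 * z) = a1 * e1 ^ 5 := by
      have h := ha1.pow he1 5
      unfold Conj at h
      rw [show (a4 * z)⁻¹ * a1 * (a4 * z) = z⁻¹ * (a4⁻¹ * a1 * a4) * z by group, h4, h]
      congr 1
      rw [inv_pow, inv_eq_iff_mul_eq_one, ← pow_mul, ← pow_succ, show 3 * 5 + 1 = 8 * 2 from rfl,
        pow_mul, h8, one_pow]
    have h15 : e1 ^ 15 = 1 := by
      have hc := fun g => (he1 g).pow_right 5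
      have hcube : ((a4 * z) ^ 3)⁻¹ * a1 * (a4 * z) ^ 3 = a1 * e1 ^ 15 := by
        generalize a4 * z = Z at step ⊢
        have mv : ∀ w : E, (∀ g, Commute g w) → Z⁻¹ * (a1 * w) * Z = a1 * e1 ^ 5 * w := fun w hw => by
          rw [show Z⁻¹ * (a1 * w) * Z = Z⁻¹ * a1 * (w * Z) by group, ← (hw Z).eq, ← mul_assoc, step]
        calc (Z ^ 3)⁻¹ * a1 * Z ^ 3 = Z⁻¹ * (Z⁻¹ * (Z⁻¹ * a1 * Z) * Z) * Z := by rw [pow_three]; group
          _ = a1 * e1 ^ 5 * (e1 ^ 5 * e1 ^ 5) := by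
            rw [step, mv _ hc, mul_assoc a1, mv _ fun g => (hc g).mul_right (hc g)]
          _ = a1 * e1 ^ 15 := by rw [mul_assoc, ← pow_add, ← pow_add]
      have hx : (a4 * z) ^ 3 = ζ82 * (a1 ^ 2)⁻¹ := by rw [← h82, hu, mul_inv_cancel_right]
      rw [hx, mul_inv_rev, inv_inv, mul_assoc _ ζ82⁻¹, ← ((h82c a1).inv_right).eq] at hcube
      have : a1 = a1 * e1 ^ 15 := by
        rw [← hcube]; group
      exact (mul_left_cancel (this.symm.trans (mul_one a1).symm))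
    rwa [show 15 = 2 * 7 + 1 from rfl, pow_succ, pow_mul, hsq, one_pow, one_mul] at h15
  subst h1
  have h2 : e2 = 1 := by
    have hA := (ha1.mul he1 ha2).mul (fun g => (he1 g).mul_right (he2 g)) ha1
    have hB := (ha2.mul he2 ha1).mul (fun g => (he2 g).mul_right (he1 g)) ha2
    rw [← b12] at hB
    have := hA.unique hB B12
    simp only [one_mul, mul_one] at this
    exact (mul_left_cancel (this.symm.trans (mul_one e2).symm))
  subst h2
  have h3 : e3 = 1 := by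
    have hA := (ha2.mul he1 ha3).mul (fun g => (he1 g).mul_right (he3 g)) ha2
    have hB := (ha3.mul he3 ha2).mul (fun g => (he3 g).mul_right (he1 g)) ha3
    rw [← b23] at hB
    have := hA.unique hB B23
    simp only [one_mul, mul_one] at this
    exact (mul_left_cancel (this.symm.trans (mul_one e3).symm))
  have one : ∀ g : E, Commute g (1 : E) := fun g => Commute.one_right g
  have conjA : ∀ {p q e : E}, (∀ g, Commute g e) → Conj z p q e →
      Conj z (a1⁻¹ * p * a1) (((a1 ^ 3)⁻¹)⁻¹ * q * (a1 ^ 3)⁻¹) e := fun {p q e} he h => by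
    have := ((ha1.inv one).mul (fun g => by rw [inv_one]; exact one g) h).mul
      (fun g => by rw [inv_one, one_mul]; exact he g) ha1
    simpa using this
  have p5' : f1 ^ 5 = 1 := by
    have h := hc1.pow hf1 5
    rw [p5, P5] at h
    simpa [Conj] using h.symm
  have p35' : f3 ^ 5 = 1 := by
    have h := hc3.pow hf3 5
    rw [p35, P35] at h
    simpa [Conj] using h.symm
  have h21 : f2 = f1 := by
    have h := conjA hf1 hc1
    rw [← k2] at h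
    exact hc2.unique h K2
  have g1 : f1 = 1 := by
    have h := conjA hf2 hc2
    rw [k22] at h
    have hh := h.unique ((hc1.pow hf1 2).inv fun g => (hf1 g).pow_right 2) K22
    rw [h21] at hh
    have h3 : f1 ^ 3 = 1 := by
      rw [pow_succ]; nth_rw 2 [hh]; rw [mul_inv_cancel]
    calc f1 = (f1 ^ 3) ^ 2 * (f1 ^ 5)⁻¹ := by rw [← pow_mul]; group
      _ = 1 := by rw [h3, p5', one_pow, inv_one, one_mul]
  have g2 : f2 = 1 := h21.trans g1
  subst g1 g2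
  have g5 : f5 = 1 := by
    have h := (((hc1.inv one).mul (fun g => by rw [inv_one]; exact one g) (hc2.inv one)).mul
      (fun g => by simp) hc1).mul (fun g => by simp) hc2
    rw [← k5] at h
    simpa using hc5.unique h K5
  have h34 : f4 = f3 ^ 3 := by
    have h := conjA hf3 hc3
    rw [k3] at h
    have hh := h.unique ((((hc3.pow hf3 2).inv fun g => (hf3 g).pow_right 2).mul
      (fun g => ((hf3 g).pow_right 2).inv_right) hc1).mul
      (fun g => by rw [mul_one]; exact ((hf3 g).pow_right 2).inv_right) hc4) K3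
    rw [mul_one] at hh
    calc f4 = f3 ^ 2 * ((f3 ^ 2)⁻¹ * f4) := by group
      _ = f3 ^ 2 * f3 := by rw [← hh]
      _ = f3 ^ 3 := (pow_succ f3 2).symm
  have g3 : f3 = 1 := by
    have h := conjA hf4 hc4
    rw [k4] at h
    have hh := h.unique (((((hc1.mul one (hc2.inv one)).mul (fun g => by simp) (hc3.inv hf3)).mul
      (fun g => by simpa using (hf3 g).inv_right) hc4).mul
      (fun g => by simpa using (hf3 g).inv_right.mul_right (hf4 g)) hc1).mul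
      (fun g => by simpa using (hf3 g).inv_right.mul_right (hf4 g)) hc4) K4
    simp only [one_mul, mul_one, inv_one] at hh
    rw [h34] at hh
    have h2 : f3 ^ 2 = 1 := by
      have : f3⁻¹ * f3 ^ 3 * f3 ^ 3 = f3 ^ 2 * f3 ^ 3 := by group
      rw [this] at hh
      exact (mul_right_cancel (hh.symm.trans (one_mul _).symm))
    calc f3 = f3 ^ 5 * ((f3 ^ 2) ^ 2)⁻¹ := by group
      _ = 1 := by rw [p35', h2, one_pow, inv_one, mul_one]
  exact ⟨rfl, rfl, h3, rfl, rfl, g3, by rw [h34, g3, one_pow], g5⟩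

end CfsgLib.KnownB.LyMult
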