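import Mathlib

/-!
The kernel of a stem extension which splits over a subgroup is killed by the index of that subgroup.
-/

set_option autoImplicit false

namespace CfsgLib.KnownB.LyMult

open Subgroup

variable {Γ G : Type*} [Group Γ] [Group G]

/-- If a stem extension splits over `K`, then the index of `K` kills the kernel. -/
theorem pow_index_eq_one (σ : Γ →* G) (hs : Function.Surjective σ) (hc : σ.ker ≤ center Γ)
    (hd : σ.ker ≤ commutator Γ) (K : Subgroup G) [K.FiniteIndex] (s : K →* Γ)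
    (hsec : ∀ k : K, σ (s k) = k) {z : Γ} (hz : σ z = 1) : z ^ K.index = 1 := by
  letI : CommGroup σ.ker :=
    { (inferInstance : Group σ.ker) with
      mul_comm := fun a b => Subtype.ext (Subgroup.mem_center_iff.1 (hc b.2) a.1) }
  let P : Subgroup Γ := K.comap σ
  have hP : P.index = K.index := index_comap_of_surjective K hs
  haveI : P.FiniteIndex := ⟨hP ▸ FiniteIndex.index_ne_zero⟩
  have mem : ∀ p : P, (p : Γ) * (s ⟨σ p, p.2⟩)⁻¹ ∈ σ.ker := fun p => by
    rw [MonoidHom.mem_ker, map_mul, map_inv, hsec, mul_inv_cancel]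
  let π : P →* σ.ker :=
    { toFun := fun p => ⟨(p : Γ) * (s ⟨σ p, p.2⟩)⁻¹, mem p⟩
      map_one' := Subtype.ext (by simp [show (⟨(1 : G), K.one_mem⟩ : K) = 1 from rfl])
      map_mul' := fun p q => Subtype.ext (by
        show (p : Γ) * q * (s ⟨σ ((p : Γ) * q), _⟩)⁻¹ =
          (p : Γ) * (s ⟨σ p, p.2⟩)⁻¹ * ((q : Γ) * (s ⟨σ q, q.2⟩)⁻¹)
        have e : (⟨σ ((p : Γ) * q), (p * q).2⟩ : K) = ⟨σ p, p.2⟩ * ⟨σ q, q.2⟩ :=
          Subtype.ext (map_mul σ _ _)
        rw [e, map_mul, mul_inv_rev]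
        have h := (Subgroup.mem_center_iff.1 (hc (mem q)) (s ⟨σ p, p.2⟩)⁻¹)
        calc (p : Γ) * q * ((s ⟨σ q, q.2⟩)⁻¹ * (s ⟨σ p, p.2⟩)⁻¹)
            = p * ((q * (s ⟨σ q, q.2⟩)⁻¹) * (s ⟨σ p, p.2⟩)⁻¹) := by group
          _ = _ := by rw [← h]; group) }
  have hcen : ∀ g : Γ, g * z = z * g := Subgroup.mem_center_iff.1 (hc (MonoidHom.mem_ker.2 hz))
  have key : ∀ (k : ℕ) (g₀ : Γ), g₀⁻¹ * z ^ k * g₀ ∈ P → g₀⁻¹ * z ^ k * g₀ = z ^ k := by
    intro k g _
    rw [mul_assoc, ← ((show Commute g z from hcen g).pow_right k).eq, inv_mul_cancel_left]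
  have h := MonoidHom.transfer_eq_pow π z key
  have h1 : MonoidHom.transfer π z = 1 := by
    have hk : commutator Γ ≤ (MonoidHom.transfer π).ker := Abelianization.commutator_subset_ker _
    exact MonoidHom.mem_ker.1 (hk (hd (MonoidHom.mem_ker.2 hz)))
  rw [h1, eq_comm] at h
  have hv := congrArg Subtype.val h
  change z ^ P.index * (s ⟨σ (z ^ P.index), _⟩)⁻¹ = 1 at hv
  have e : ∀ h, (⟨σ (z ^ P.index), h⟩ : K) = 1 := fun h =>
    Subtype.ext (show σ (z ^ P.index) = 1 by rw [map_pow, hz, one_pow])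
  have hm : σ (z ^ P.index) ∈ K := MonoidHom.transfer_eq_pow_aux z key
  change z ^ P.index * (s ⟨σ (z ^ P.index), hm⟩)⁻¹ = 1 at hv
  rw [e hm, map_one, inv_one, mul_one] at hv
  rwa [hP] at hv

end CfsgLib.KnownB.LyMult
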