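import Cfsg.Agent.Lib.DCE.Facts

/-!
A form of the fact check with linear-time inversion of words, for long runs.
-/

set_option autoImplicit false

namespace CfsgLib.KnownB.LyMult

open CfsgLib.PresCert CfsgLib.DCE

/-- the inverse word, in linear time -/
noncomputable def ivwT (w : List Nat) : List Nat :=
  List.rec (fun acc => acc) (fun x _ f acc => f (Nat.xor x (nat_lit 1) :: acc)) w []

theorem ivwT_eq (w : List Nat) : ivwT w = ivw w := by
  suffices h : ∀ acc, List.rec (motive := fun _ => List Nat → List Nat) (fun acc => acc)
      (fun x _ f acc => f (Nat.xor x (nat_lit 1) :: acc)) w acc = ivw w ++ acc by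
    simpa [ivwT] using h []
  induction w with
  | nil => intro acc; rfl
  | cons x w ih =>
    intro acc
    show _ = ivw w ++ [Nat.xor x 1] ++ acc
    rw [List.append_assoc, List.singleton_append]
    exact ih _

/-- fact number `n` follows from the earlier ones -/
noncomputable def okFactT (S : Setup) (fs : List Fact) (n : Nat) : Bool :=
  let F := Setup.fget fs n
  S.okShape F &&
  match F.just with
  | .base => decide (F.ty = 0 ∧ F.i = 0 ∧ F.p = F.q)
  | .defEdge =>
    decide (F.ty = 1 ∧ 0 < F.j ∧ F.p = [] ∧ F.q = [] ∧ S.defs[F.j - 1]? = some (F.i, F.e, F.r))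
  | .loop start k rel rot lp swap r1 r2 gap =>
    let w0 := S.rels.getD rel []
    let w := w0.drop rot ++ w0.take rot
    let w2 := if F.ty = 1 then w.drop (lp + 1) else w.drop lp
    decide (rel < S.rels.length ∧ start ≤ S.defs.length ∧ S.okW k = true ∧ lp ≤ w.length ∧
      (F.ty = 1 → lp < w.length)) &&
    match S.run fs n r1 (w.take lp) ⟨[], start, k⟩, S.run fs n r2 (S.invAll w2) ⟨[], start, k⟩ with
    | some A0, some B0 =>
      let A := if swap then B0 else A0
      let B := if swap then A0 else B0
      decide (A.i = F.i) && decide (B.i = F.j) &&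
        S.same (ivwT A.v ++ B.v) (if F.ty = 0 then F.q else F.p) &&
      match F.ty with
      | 0 => decide (F.i = F.j) && S.same (A.k ++ ivwT B.k) F.p
      | 1 =>
        let l0 := w.getD lp (nat_lit 0)
        let l := if swap then S.linv.getD l0 (nat_lit 0) else l0
        let L := S.letE l
        decide (S.P.g ≤ l ∧ l < S.P.g + S.lets.length ∧ L.1 = F.e) &&
          (gap.all fun x => Nat.blt x (S.edge L.1).src.length) &&
          S.same (A.k ++ ivwT L.2) (F.r ++ S.srcW L.1 gap) &&
          S.same (B.k ++ (ivwT L.2 ++ ivwT (S.imgW L.1 gap))) F.q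
      | _ => S.same (B.k ++ ivwT A.k) F.q
    | _, _ => false

theorem okFactT_eq (S : Setup) (fs : List Fact) (n : Nat) : okFactT S fs n = S.okFact fs n := by
  simp only [okFactT, ivwT_eq]
  rfl

/-- the facts numbered from `lo` to `lo + len` follow from the earlier ones -/
noncomputable def okRangeT (S : Setup) (fs : List Fact) (lo len : Nat) : Bool :=
  allBelow len fun j => okFactT S fs (Nat.add lo j)

theorem okRangeT_eq (S : Setup) (fs : List Fact) (lo len : Nat) :
    okRangeT S fs lo len = S.okRange fs lo len := by
  simp only [okRangeT, okFactT_eq]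
  rfl

end CfsgLib.KnownB.LyMult
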