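import Cfsg.Agent.Lib.KnownB.LyMult.KKills

/-!
The multiplier of the presented Lyons group is trivial, from permutations of `⟨a, b, c, d⟩`, its
embedding and the checked facts of the enumeration over it.
-/

set_option autoImplicit false

namespace CfsgLib.KnownB.LyMult

open Cfsg.Spor CfsgLib.DCE CfsgLib.PresCert

variable {K : Type} [Group K] {P : PermData} (base : List Nat) (M : Perms P K) (hm : M.m = 4)

/-- the three identities used in the lifting, on the base -/
noncomputable def okId (P : PermData) (base : List Nat) : Bool :=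
  let S := mkSetup P base
  S.same (ivw w_a4 ++ [nat_lit 0] ++ w_a4) [0, 0, 0, 0, 0] &&
    S.same ([nat_lit 0] ++ w_a2 ++ [nat_lit 0]) (w_a2 ++ [nat_lit 0] ++ w_a2) &&
    S.same (w_a2 ++ w_a3 ++ w_a2) (w_a3 ++ w_a2 ++ w_a3)

/-- the kills are equations in `K` -/
noncomputable def okSame (P : PermData) (base : List Nat) : Bool :=
  killF.all fun f => (mkSetup P base).same (Setup.fget cFacts f).p (Setup.fget cFacts f).q

include hm in
theorem same_eq (hinj : ∀ h : K, (∀ i : Fin P.n, (i : Nat) ∈ base → M.act h i = i) → h = 1)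
    {u w : List Nat} (hu : ∀ x ∈ u, x < 8) (hw : ∀ x ∈ w, x < 8)
    (h : (mkSetup P base).same u w = true) : M.val u = M.val w := by
  have hg : P.g = 8 := by rw [M.g_eq, hm]
  simp only [Setup.same, List.all_eq_true, Nat.beq_eq] at h
  have key : M.val u * (M.val w)⁻¹ = 1 := hinj _ fun i hi => by
    have := h _ hi
    change P.app u i = P.app w i at this
    rw [M.app_eq u (hg ▸ hu), M.app_eq w (hg ▸ hw)] at this
    rw [Perms.act_mul, show M.act (M.val u) i = M.act (M.val w) i from Fin.ext this, ← Perms.act_mul,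
      mul_inv_cancel, Perms.act_one]
  exact mul_inv_eq_one.1 key

/-- The multiplier is trivial. -/
theorem trivial_multiplier' [Finite Cfsg.Spor.Ly] [Finite K] (hK : commutator K = ⊤)
    (hmK : Cfsg.HasCyclicSchurMultiplier K 1)
    (hinj : ∀ h : K, (∀ i : Fin P.n, (i : Nat) ∈ base → M.act h i = i) → h = 1)
    (ψ : K →* Cfsg.Spor.Ly) (hψ : Function.Injective ψ)
    (ha : ψ (M.gen (Fin.cast hm.symm 0)) = gn .a) (hb : ψ (M.gen (Fin.cast hm.symm 1)) = gn .b)
    (hc : ψ (M.gen (Fin.cast hm.symm 2)) = gn .c) (hd : ψ (M.gen (Fin.cast hm.symm 3)) = gn .d)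
    (hid : okId P base = true) (hsame : okSame P base = true)
    (hS : (mkSetup P base).okSetup = true)
    (hF : ∀ n < cFacts.length, (mkSetup P base).okFact cFacts n = true) :
    Cfsg.HasCyclicSchurMultiplier Cfsg.Spor.Ly 1 := by
  set a := M.gen (Fin.cast hm.symm 0)
  set b := M.gen (Fin.cast hm.symm 1)
  set c := M.gen (Fin.cast hm.symm 2)
  set d := M.gen (Fin.cast hm.symm 3)
  have hv : ∀ w : List Nat, M.val w = wv (f4 a b c d) w := by
    intro w
    induction w with
    | nil => rfl
    | cons x w ih =>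
      rw [show M.val (x :: w) = lv M.gen x * M.val w by simp [Perms.val, wv], wv_cons, ih]
      congr 1
      unfold lv
      by_cases h : x / 2 < 4
      · rw [dif_pos (show x / 2 < M.m by rw [hm]; exact h), dif_pos h]
        have : M.gen ⟨x / 2, hm.symm ▸ h⟩ = f4 a b c d ⟨x / 2, h⟩ := by
          interval_cases hx : x / 2 <;> rfl
        rw [this]
      · rw [dif_neg (show ¬ x / 2 < M.m by rw [hm]; exact h), dif_neg h]
  simp only [okId, Bool.and_eq_true] at hid
  obtain ⟨⟨i1, i2⟩, i3⟩ := hid
  have e1 := same_eq base M hm hinj (by decide) (by decide) i1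
  have e2 := same_eq base M hm hinj (by decide) (by decide) i2
  have e3 := same_eq base M hm hinj (by decide) (by decide) i3
  have w0 : wv (f4 a b c d) [nat_lit 0] = a := by simp [wv, lv, f4]
  have w5 : wv (f4 a b c d) [0, 0, 0, 0, 0] = a ^ 5 := by simp [wv, lv, f4, pow_succ, mul_assoc]
  simp only [hv, CfsgLib.DCE.wv_append, wv_ivw, wv_a4, wv_a2, wv_a3, w0, w5] at e1 e2 e3
  let D : KData K :=
    { a := a, b := b, c := c, d := d, ψ := ψ, inj := hψ, ha := ha, hb := hb, hc := hc, hd := hd
      h4 := e1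
      b12 := e2
      b23 := e3 }
  refine trivial_multiplier D hK hmK (kills_of_facts base M hm hinj D (fun k => ?_) hS hF hsame)
  obtain ⟨k, hk⟩ := k
  have h4 : k < 4 := hm ▸ hk
  interval_cases k <;> rfl

end CfsgLib.KnownB.LyMult
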