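import Cfsg.Agent.Lib.KnownB.LyMult.KModel

/-!
The five central values vanish, given that the facts of the enumeration are checked.
-/

set_option autoImplicit false

namespace CfsgLib.KnownB.LyMult

open Cfsg.Spor CfsgLib.DCE CfsgLib.PresCert Multiplicative

variable {K : Type} [Group K] {P : PermData} (base : List Nat) (M : Perms P K) (hm : M.m = 4)
variable (hinj : ∀ h : K, (∀ i : Fin P.n, (i : Nat) ∈ base → M.act h i = i) → h = 1)
variable (D : KData K) (hgen : ∀ k : Fin M.m, M.gen k = f4 D.a D.b D.c D.d (Fin.cast hm k))
variable {Q : Type} [Group Q] (φ : K →* Q) (z s t83 t84 t85 t86 : Q)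
variable (hce : ∀ x ∈ [s, t83, t84, t85, t86], ∀ g, Commute g x)
variable (hR : ZRels (asg D φ z) s t83 t84 t85 t86)

theorem rels143_len : rels143.length = 143 := by decide +kernel

theorem exp143_len : exp143.length = 143 := by decide +kernel

theorem srcImg_len : src0.length = 8 ∧ img0.length = 8 ∧ src1.length = 8 ∧ img1.length = 8 := by
  decide +kernel

/-- the meaning of the enumeration -/
noncomputable def kModel : WModel (mkSetup P base) V5 K Q where
  M := M
  inj := hinj
  f := φ
  T e := if e = 0 then z else z⁻¹
  comm e he k hk := by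
    have he' : e < 2 := he
    obtain ⟨l0, -, l1, -⟩ := srcImg_len
    interval_cases e
    · exact (edge_comm M hm D hgen φ z s t83 t84 t85 t86 hce hR k (l0 ▸ hk)).1
    · exact (edge_comm M hm D hgen φ z s t83 t84 t85 t86 hce hR k (l1 ▸ hk)).2
  gen' := gl M φ z
  gen'_lt x hx := by
    have hx8 : x < 8 := by
      have : P.g = 8 := by rw [M.g_eq, hm]
      exact this ▸ hx
    simp [gl, hx8, Perms.val, wv]
  gen'_let x h1 h2 := by
    have hg : P.g = 8 := by rw [M.g_eq, hm]
    change P.g ≤ x at h1
    change x < P.g + 2 at h2
    rcases (show x = 8 ∨ x = 9 by omega) with rfl | rfl <;>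
      simp [gl, Setup.letE, mkSetup, hg, Perms.val, wv]
  gen'_inv x hx := by
    have hg : P.g = 8 := by rw [M.g_eq, hm]
    change x < P.g + 2 at hx
    exact gl_inv M φ z x (by omega)
  χ := chi s t83 t84 t85 t86 hce
  cen := chi_cen s t83 t84 t85 t86 hce
  E r := exp143.getD r 0
  rels_eq r hr := by
    change r < rels143.length at hr
    have hr' : r < exp143.length := by rw [exp143_len]; rw [rels143_len] at hr; exact hr
    have h := rels_val M hm D hgen φ z s t83 t84 t85 t86 hce hR
    have := List.getElem_of_eq h (i := r) (by simpa using hr)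
    simp only [List.getElem_map] at this
    show ((rels143.getD r []).map (gl M φ z)).prod = chi s t83 t84 t85 t86 hce (ofAdd (exp143.getD r 0))
    rw [List.getD_eq_getElem?_getD, List.getElem?_eq_getElem hr, List.getD_eq_getElem?_getD,
      List.getElem?_eq_getElem hr']
    exact this

/-- the weights of the facts add up along their justifications -/
noncomputable def okWts : Bool :=
  allBelow cFacts.length fun n => okWt (fun r => exp143.getD r 0) wts5 cFacts n

theorem okWts_true : okWts = true := by decide +kernel

/-- the facts used are at the base double coset -/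
noncomputable def okKillF : Bool :=
  killF.all fun f => Nat.blt f cFacts.length && Nat.beq (Setup.fget cFacts f).ty 0 &&
    Nat.beq (Setup.fget cFacts f).i 0

theorem okKillF_true : okKillF = true := by decide +kernel

/-- the combination of the exponents of the facts used -/
def comb (c : List Int) : V5 :=
  ((killF.zip c).map fun q => q.2 • wget wts5 q.1).sum

theorem comb_units :
    combo.map comb = [(1, 0, 0, 0, 0), (0, 1, 0, 0, 0), (0, 0, 1, 0, 0), (0, 0, 0, 1, 0), (0, 0, 0, 0, 1)] := by
  decide +kernel

include hm hinj hgen in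
/-- Once the facts are checked, the five values are trivial. -/
theorem kills_of_facts (hS : (mkSetup P base).okSetup = true)
    (hF : ∀ n < cFacts.length, (mkSetup P base).okFact cFacts n = true)
    (hsame : (killF.all fun f =>
      (mkSetup P base).same (Setup.fget cFacts f).p (Setup.fget cFacts f).q) = true) : Kills D := by
  intro Q _ φ z s t83 t84 t85 t86 hce hR
  let N := kModel base M hm hinj D hgen φ z s t83 t84 t85 t86 hce hR
  have hw : ∀ n < cFacts.length, okWt N.E wts5 cFacts n = true := fun n hn =>
    allBelow_spec okWts_true n hn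
  have hz : ∀ f ∈ killF, N.z (wget wts5 f) = 1 := by
    intro f hf
    have hk := okKillF_true
    simp only [okKillF, List.all_eq_true, Bool.and_eq_true, Nat.blt_eq, Nat.beq_eq] at hk
    obtain ⟨⟨h1, h2⟩, h3⟩ := hk f hf
    exact z_eq_one_of_fact N (wfacts_sound N hS cFacts wts5 hF hw f h1) h2 h3
      (List.all_eq_true.1 hsame f hf)
  have hsum : ∀ l : List (Nat × Int), (∀ q ∈ l, q.1 ∈ killF) →
      N.z ((l.map fun q => q.2 • wget wts5 q.1).sum) = 1 := by
    intro l
    induction l with
    | nil => intro; exact N.z_zero
    | cons q l ih =>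
      intro hl
      rw [List.map_cons, List.sum_cons, N.z_add, ih fun x hx => hl x (List.mem_cons_of_mem _ hx), mul_one,
        WModel.z, ofAdd_zsmul, map_zpow]
      rw [show N.χ (ofAdd (wget wts5 q.1)) = 1 from hz _ (hl q (List.mem_cons_self ..)), one_zpow]
  have hu : ∀ v ∈ combo.map comb, N.z v = 1 := by
    intro v hv
    obtain ⟨c, -, rfl⟩ := List.mem_map.1 hv
    exact hsum _ fun q hq => (List.of_mem_zip hq).1
  rw [comb_units] at hu
  have e1 := hu _ (List.mem_cons_self ..)
  have e2 := hu (0, 1, 0, 0, 0) (by simp)
  have e3 := hu (0, 0, 1, 0, 0) (by simp)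
  have e4 := hu (0, 0, 0, 1, 0) (by simp)
  have e5 := hu (0, 0, 0, 0, 1) (by simp)
  simp [N, kModel, WModel.z, chi] at e1 e2 e3 e4 e5
  simp [e1, e2, e3, e4, e5]

end CfsgLib.KnownB.LyMult
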