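import Cfsg.Agent.Lib.KnownB.LyMult.Lifts

/-!
The multiplier of the presented Lyons group is trivial, given that the five central values of the
relators vanish.
-/

set_option autoImplicit false
set_option maxHeartbeats 1000000

namespace CfsgLib.KnownB.LyMult

open Cfsg.Spor Subgroup
open scoped commutatorElement

variable {K : Type} [Group K] (D : KData K)

/-- In every group, five central elements which are the values of the relators involving `z` on a
copy of `K` and an element are trivial. -/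
def Kills : Prop :=
  ∀ (P : Type) [Group P] (φ : K →* P) (z s t83 t84 t85 t86 : P),
    (∀ x ∈ [s, t83, t84, t85, t86], ∀ g, Commute g x) →
    ZRels (asg D φ z) s t83 t84 t85 t86 → ∀ x ∈ [s, t83, t84, t85, t86], x = 1

/-- The relators not involving `z` hold in `K`. -/
theorem rel_K {P : Type*} [Group P] (φ : K →* P) (z : P) {r : FreeGroup Ly.Gen}
    (hz : FreeGroup.lift (asg D φ z) r = φ (FreeGroup.lift D.v r))
    (hv : D.ψ (FreeGroup.lift D.v r) = FreeGroup.lift gn r) (hr : r ∈ Ly.extra) :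
    FreeGroup.lift (asg D φ z) r = 1 := by
  rw [hz, D.inj (by rw [hv, rel_one hr, map_one] : D.ψ (FreeGroup.lift D.v r) = D.ψ 1), map_one]

theorem exists_hom {P : Type*} [Group P] (φ : K →* P) (z : P) (h : ZRels (asg D φ z) 1 1 1 1 1) :
    ∃ τ : Cfsg.Spor.Ly →* P, ∀ g, τ (gn g) = asg D φ z g := by
  have aux : ∀ r ∈ coxRelators Ly.edges ∪ {r | r ∈ Ly.extra}, FreeGroup.lift (asg D φ z) r = 1 := by
    rintro r (⟨x, hx, -⟩ | hr)
    · simp [Ly.edges, coxNodes] at hx
    · have hr' : r ∈ Ly.extra := hr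
      simp only [Ly.extra, Set.mem_setOf_eq, List.mem_cons, List.not_mem_nil, or_false] at hr
      rcases hr with rfl | rfl | rfl | rfl | rfl | rfl | rfl | rfl | rfl | rfl | rfl | rfl | rfl | rfl | rfl |
        rfl | rfl | rfl | rfl | rfl | rfl | rfl | rfl | rfl | rfl | rfl | rfl | rfl | rfl | rfl | rfl | rfl |
        rfl | rfl | rfl | rfl | rfl | rfl | rfl | rfl | rfl | rfl | rfl | rfl | rfl | rfl | rfl | rfl | rfl |
        rfl | rfl | rfl | rfl | rfl | rfl | rfl | rfl | rfl | rfl | rfl | rfl | rfl | rfl | rfl | rfl | rfl |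
        rfl | rfl | rfl | rfl | rfl | rfl | rfl | rfl | rfl | rfl | rfl | rfl | rfl | rfl | rfl | rfl | rfl |
        rfl | rfl | rfl
      all_goals
        first
          | (refine rel_K D φ z ?_ ?_ hr' <;>
              (simp (discharger := decide) only [map_mul, map_pow, map_inv, FreeGroup.lift_apply_of,
                asg_eq D φ z, KData.ψ_v]; done))
          | (simp only [map_mul, map_pow, map_inv, FreeGroup.lift_apply_of, mul_inv_eq_one]
             first
               | exact h.r73 | exact h.r74 | exact h.r75 | exact h.r76 | exact h.r77 | exact h.r78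
               | exact h.r79 | exact h.r80 | exact h.r81.trans (mul_one _) | exact h.r82 | exact h.r83
               | exact h.r84 | exact h.r85 | exact h.r86)
  exact ⟨PresentedGroup.toGroup aux, fun g => PresentedGroup.toGroup.of aux⟩

/-- The multiplier is trivial. -/
theorem trivial_multiplier [Finite Cfsg.Spor.Ly] [Finite K] (hK : commutator K = ⊤)
    (hm : Cfsg.HasCyclicSchurMultiplier K 1) (hkill : Kills D) : Cfsg.HasCyclicSchurMultiplier Cfsg.Spor.Ly 1 := by
  have hu : ∀ {H : Type} [Group H] (L : Subgroup H), L = ⊥ →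
      ∃ e : Multiplicative (ZMod 1) →* L, Function.Bijective e := fun L hL => by
    subst hL
    exact ⟨1, fun _ _ _ => Subsingleton.elim (α := ZMod 1) _ _,
      fun k => ⟨1, (Subsingleton.elim (α := (⊥ : Subgroup _)) _ _)⟩⟩
  refine ⟨⟨Cfsg.Spor.Ly, inferInstance, inferInstance, MonoidHom.id _,
    ⟨Function.surjective_id, ?_, ?_⟩, ?_⟩, fun Γ _ _ σ hσ => ?_⟩
  · rw [MonoidHom.ker_id]; exact bot_le
  · rw [MonoidHom.ker_id]; exact bot_le
  · obtain ⟨e, he⟩ := hu (MonoidHom.id Cfsg.Spor.Ly).ker MonoidHom.ker_id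
    exact ⟨(MulEquiv.ofBijective e he).symm⟩
  obtain ⟨hs, hc, hd⟩ := hσ
  suffices hb : σ.ker = ⊥ by
    obtain ⟨e, he⟩ := hu σ.ker hb
    exact ⟨e, he.surjective⟩
  obtain ⟨φ, hφ⟩ := J4Mult.exists_lift hK hm σ hs hc D.ψ
  obtain ⟨z, s, t83, t84, t85, t86, hz, h1, hR⟩ := exists_lifts D σ hs hc φ hφ
  have cen : ∀ {k : Γ}, σ k = 1 → ∀ g, Commute g k := fun {k} hk g =>
    Subgroup.mem_center_iff.1 (hc (MonoidHom.mem_ker.2 hk)) g
  have hz1 := hkill Γ φ z s t83 t84 t85 t86 (fun x hx => cen (h1 x hx)) hR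
  simp only [List.forall_mem_cons, List.not_mem_nil, false_imp_iff, forall_const, and_true] at hz1
  obtain ⟨rfl, rfl, rfl, rfl, rfl⟩ := hz1
  obtain ⟨τ, hτ⟩ := exists_hom D φ z hR
  have hid : σ.comp τ = MonoidHom.id _ := PresentedGroup.ext fun i => by
    show σ (τ (gn i)) = gn i
    rw [hτ]
    by_cases hi : i = .z
    · subst hi; exact hz
    · rw [asg_eq D φ z hi, ← MonoidHom.comp_apply, hφ, D.ψ_v hi]
  have hinv : ∀ x, σ (x * (τ (σ x))⁻¹) = 1 := fun x => by
    rw [map_mul, map_inv, ← MonoidHom.comp_apply, hid, MonoidHom.id_apply, mul_inv_cancel]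
  let r : Γ →* σ.ker :=
    { toFun := fun x => ⟨x * (τ (σ x))⁻¹, MonoidHom.mem_ker.2 (hinv x)⟩
      map_one' := Subtype.ext (by simp)
      map_mul' := fun x y => Subtype.ext (by
        show x * y * (τ (σ (x * y)))⁻¹ = x * (τ (σ x))⁻¹ * (y * (τ (σ y))⁻¹)
        rw [map_mul, map_mul, mul_inv_rev]
        have hk := (cen (hinv y) (τ (σ x))⁻¹).eq
        calc x * y * ((τ (σ y))⁻¹ * (τ (σ x))⁻¹) = x * ((y * (τ (σ y))⁻¹) * (τ (σ x))⁻¹) := by group
          _ = _ := by rw [← hk]; group) }
  have hcr : commutator Γ ≤ r.ker := by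
    rw [_root_.commutator_def, Subgroup.commutator_le]
    intro x _ y _
    rw [MonoidHom.mem_ker, map_commutatorElement, commutatorElement_eq_one_iff_mul_comm]
    exact Subtype.ext ((cen (MonoidHom.mem_ker.1 (r y).2) _).eq)
  refine (Subgroup.eq_bot_iff_forall _).2 fun x hx => ?_
  have h := congrArg Subtype.val (MonoidHom.mem_ker.1 (hcr (hd hx)))
  change x * (τ (σ x))⁻¹ = 1 at h
  rwa [MonoidHom.mem_ker.1 hx, map_one, inv_one, mul_one] at h

end CfsgLib.KnownB.LyMult
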