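import Cfsg.Agent.Lib.KnownB.LyMult.Values
import Cfsg.Agent.Lib.KnownB.LyMult.Cert.Setup
import Cfsg.Agent.Lib.DCE.Subst

/-!
The structured words of the generators evaluate to the values of the generators.
-/

set_option autoImplicit false
set_option maxHeartbeats 1000000

namespace CfsgLib.KnownB.LyMult

open Cfsg.Spor CfsgLib.DCE

variable {G : Type*} [Group G] (a b c d : G)

/-- the four generators as letters -/
def f4 : Fin 4 → G := ![a, b, c, d]

theorem wv_c1 : wv (f4 a b c d) w_c1 = val a b c d 1 .c1 := by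
  simp [wv, lv, w_c1, f4, val, pow_succ, mul_assoc]

theorem wv_c2 : wv (f4 a b c d) w_c2 = val a b c d 1 .c2 := by
  simp [wv, lv, w_c2, f4, val, pow_succ, mul_assoc]

theorem wv_c3 : wv (f4 a b c d) w_c3 = val a b c d 1 .c3 := by
  simp [wv, lv, w_c3, f4, val, pow_succ, mul_assoc]

theorem wv_c4 : wv (f4 a b c d) w_c4 = val a b c d 1 .c4 := by
  simp [wv, lv, w_c4, f4, val, pow_succ, mul_assoc]

theorem wv_c5 : wv (f4 a b c d) w_c5 = val a b c d 1 .c5 := by
  simp [wv, lv, w_c5, f4, val, pow_succ, mul_assoc]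

theorem wv_a1 : wv (f4 a b c d) w_a1 = val a b c d 1 .a1 := by
  simp [wv, lv, w_a1, f4, val, pow_succ, mul_assoc]

theorem wv_a2 : wv (f4 a b c d) w_a2 = val a b c d 1 .a2 := by
  simp [wv, lv, w_a2, f4, val, pow_succ, mul_assoc]

theorem wv_a3 : wv (f4 a b c d) w_a3 = val a b c d 1 .a3 := by
  simp [wv, lv, w_a3, f4, val, pow_succ, mul_assoc]

theorem wv_a4 : wv (f4 a b c d) w_a4 = val a b c d 1 .a4 := by
  simp [wv, lv, w_a4, f4, val, pow_succ, mul_assoc]

theorem wv_u : wv (f4 a b c d) w_u = val a b c d 1 .u := by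
  simp [wv, lv, w_u, f4, val, pow_succ, mul_assoc]

theorem wv_x23 : wv (f4 a b c d) w_x23 = val a b c d 1 .x23 := by
  simp [wv, lv, w_x23, f4, val, pow_succ, mul_assoc]

theorem wv_x24 : wv (f4 a b c d) w_x24 = val a b c d 1 .x24 := by
  simp [wv, lv, w_x24, f4, val, pow_succ, mul_assoc]

theorem wv_x25 : wv (f4 a b c d) w_x25 = val a b c d 1 .x25 := by
  simp [wv, lv, w_x25, f4, val, pow_succ, mul_assoc]

theorem wv_x29 : wv (f4 a b c d) w_x29 = val a b c d 1 .x29 := by
  simp [wv, lv, w_x29, f4, val, pow_succ, mul_assoc]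

theorem wv_x47 : wv (f4 a b c d) w_x47 = val a b c d 1 .x47 := by
  simp [wv, lv, w_x47, f4, val, pow_succ, mul_assoc]

theorem wv_x96 : wv (f4 a b c d) w_x96 = val a b c d 1 .x96 := by
  simp [wv, lv, w_x96, f4, val, pow_succ, mul_assoc]

theorem wv_x129 : wv (f4 a b c d) w_x129 = val a b c d 1 .x129 := by
  simp [wv, lv, w_x129, f4, val, pow_succ, mul_assoc]

theorem wv_x162 : wv (f4 a b c d) w_x162 = val a b c d 1 .x162 := by
  simp [wv, lv, w_x162, f4, val, pow_succ, mul_assoc]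

theorem wv_x163 : wv (f4 a b c d) w_x163 = val a b c d 1 .x163 := by
  simp [wv, lv, w_x163, f4, val, pow_succ, mul_assoc]

theorem wv_x164 : wv (f4 a b c d) w_x164 = val a b c d 1 .x164 := by
  simp [wv, lv, w_x164, f4, val, pow_succ, mul_assoc]

theorem wv_x165 : wv (f4 a b c d) w_x165 = val a b c d 1 .x165 := by
  simp [wv, lv, w_x165, f4, val, pow_succ, mul_assoc]

theorem wv_x166 : wv (f4 a b c d) w_x166 = val a b c d 1 .x166 := by
  simp [wv, lv, w_x166, f4, val, pow_succ, mul_assoc]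

theorem wv_x167 : wv (f4 a b c d) w_x167 = val a b c d 1 .x167 := by
  simp [wv, lv, w_x167, f4, val, pow_succ, mul_assoc]

theorem wv_x168 : wv (f4 a b c d) w_x168 = val a b c d 1 .x168 := by
  simp [wv, lv, w_x168, f4, val, pow_succ, mul_assoc]

theorem wv_x169 : wv (f4 a b c d) w_x169 = val a b c d 1 .x169 := by
  simp [wv, lv, w_x169, f4, val, pow_succ, mul_assoc]

theorem wv_x364 : wv (f4 a b c d) w_x364 = val a b c d 1 .x364 := by
  simp [wv, lv, w_x364, f4, val, pow_succ, mul_assoc]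

theorem wv_x365 : wv (f4 a b c d) w_x365 = val a b c d 1 .x365 := by
  simp [wv, lv, w_x365, f4, val, pow_succ, mul_assoc]

theorem wv_x366 : wv (f4 a b c d) w_x366 = val a b c d 1 .x366 := by
  simp [wv, lv, w_x366, f4, val, pow_succ, mul_assoc]

theorem wv_x367 : wv (f4 a b c d) w_x367 = val a b c d 1 .x367 := by
  simp [wv, lv, w_x367, f4, val, pow_succ, mul_assoc]

theorem wv_x368 : wv (f4 a b c d) w_x368 = val a b c d 1 .x368 := by
  simp [wv, lv, w_x368, f4, val, pow_succ, mul_assoc]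

theorem wv_x369 : wv (f4 a b c d) w_x369 = val a b c d 1 .x369 := by
  simp [wv, lv, w_x369, f4, val, pow_succ, mul_assoc]

theorem wv_x370 : wv (f4 a b c d) w_x370 = val a b c d 1 .x370 := by
  simp [wv, lv, w_x370, f4, val, pow_succ, mul_assoc]

theorem wv_x371 : wv (f4 a b c d) w_x371 = val a b c d 1 .x371 := by
  simp [wv, lv, w_x371, f4, val, pow_succ, mul_assoc]

end CfsgLib.KnownB.LyMult
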