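import Cfsg.Agent.Lib.KnownB.LyMult.WCheck
import Cfsg.Agent.Lib.KnownB.LyMult.WordVals
import Cfsg.Agent.Lib.KnownB.LyMult.Main
import Cfsg.Agent.Lib.KnownB.LyMult.Cert.Facts
import Cfsg.Agent.Lib.KnownB.LyMult.Cert.Weights

/-!
The meaning of the enumeration in a group with five central values of relators, and the equations it
gives for them.
-/

set_option autoImplicit false
set_option maxHeartbeats 1000000

namespace CfsgLib.KnownB.LyMult

open Cfsg.Spor CfsgLib.DCE CfsgLib.PresCert Multiplicative

/-- structured relator number `i` -/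
def struct14 : List (List Nat) :=
  [[9] ++ w_c1 ++ [8] ++ invL w_x162, [9] ++ w_c2 ++ [8] ++ invL w_x163,
   [9] ++ w_c3 ++ [8] ++ invL w_x164, [9] ++ w_c4 ++ [8] ++ invL w_x165,
   [9] ++ w_c5 ++ [8] ++ invL w_x166, [9] ++ w_a1 ++ [8] ++ invL w_x167,
   [9] ++ w_a2 ++ [8] ++ invL w_x168, [9] ++ w_a3 ++ [8] ++ invL w_x169,
   [8, 8] ++ invL w_u, w_a4 ++ [8] ++ (w_a4 ++ [8]) ++ (w_a4 ++ [8]) ++ w_u,
   w_x47 ++ [8] ++ w_x364 ++ [8] ++ w_x368 ++ [8],
   [9] ++ w_x24 ++ [9] ++ w_x369 ++ [8] ++ w_x23 ++ [8] ++ w_x29,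
   [8] ++ w_x366 ++ [8] ++ w_x365 ++ [9] ++ w_x367 ++ [9] ++ w_x370,
   [8] ++ w_x96 ++ [8] ++ w_x25 ++ [9] ++ w_x129 ++ [9] ++ w_x371]

/-- free reduction -/
def fredL (w : List Nat) : List Nat :=
  w.foldr (fun x r => match r with
    | [] => [x]
    | y :: r' => if y = linvL.getD x 0 ∧ x < 10 then r' else x :: y :: r') []

/-- every letter is one of the ten -/
def okL (w : List Nat) : Bool := w.all fun x => Nat.blt x 10

section words

variable {P : Type*} [Group P] (g : Nat → P) (hinv : ∀ x < 10, g (linvL.getD x 0) = (g x)⁻¹)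

include hinv in
theorem prod_fredL : ∀ w : List Nat, ((fredL w).map g).prod = (w.map g).prod
  | [] => rfl
  | x :: w => by
    have ih := prod_fredL w
    have e : fredL (x :: w) = (match fredL w with
      | [] => [x]
      | y :: r' => if y = linvL.getD x 0 ∧ x < 10 then r' else x :: y :: r') := rfl
    rw [e]
    cases hr : fredL w with
    | nil =>
      rw [hr] at ih
      simp [← ih]
    | cons y r =>
      rw [hr] at ih
      simp only
      split_ifs with hy
      · simp only [List.map_cons, List.prod_cons] at ih ⊢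
        rw [← ih, hy.1, hinv x hy.2, mul_inv_cancel_left]
      · simp only [List.map_cons, List.prod_cons] at ih ⊢
        rw [ih]

include hinv in
theorem prod_invL : ∀ w : List Nat, okL w = true → ((invL w).map g).prod = ((w.map g).prod)⁻¹
  | [], _ => by simp [invL]
  | x :: w, h => by
    simp only [okL, List.all_cons, Bool.and_eq_true, Nat.blt_eq] at h
    have ih := prod_invL w h.2
    simp only [invL, List.reverse_cons, List.map_append, List.map_cons, List.map_nil, List.prod_append,
      List.prod_cons, List.prod_nil, mul_one, mul_inv_rev] at ih ⊢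
    rw [ih, hinv x h.1]

end words

/-- the reduced relators are conjugate to the structured ones -/
def okBody : Bool :=
  (List.range 14).all fun i =>
    okL (cjw.getD i []) &&
      (fredL (cjw.getD i [] ++ body.getD i [] ++ invL (cjw.getD i [])) == fredL (struct14.getD i []))

theorem okBody_true : okBody = true := by decide +kernel

/-- the edge words agree with the structured ones -/
def okEdgeW : Bool :=
  let small (w : List Nat) : Bool := w.all fun x => Nat.blt x 8
  (List.range 8).all fun k =>
    let s := [w_c1, w_c2, w_c3, w_c4, w_c5, w_a1, w_a2, w_a3].getD k []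
    let t := [w_x162, w_x163, w_x164, w_x165, w_x166, w_x167, w_x168, w_x169].getD k []
    small (src0.getD k []) && small (img0.getD k []) && small (src1.getD k []) && small (img1.getD k []) &&
      (fredL (src0.getD k []) == fredL s) && (fredL (img0.getD k []) == fredL t) &&
      (fredL (src1.getD k []) == fredL s) && (fredL (img1.getD k []) == fredL (w_u ++ t ++ invL w_u))

theorem okEdgeW_true : okEdgeW = true := by decide +kernel

/-- the conjugated relators use relators `< 14` and known letters -/
def okPres : Bool := pres.all fun q => Nat.blt q.1 14 && okL q.2 && okL (body.getD q.1 [])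

theorem okPres_true : okPres = true := by decide +kernel

theorem okL_rel70 : (rel70.all okL) = true := by decide +kernel

/-- five exponents -/
abbrev V5 : Type := ℤ × ℤ × ℤ × ℤ × ℤ

/-- five exponents from a list -/
def vec5 (l : List Int) : V5 := (l.getD 0 0, l.getD 1 0, l.getD 2 0, l.getD 3 0, l.getD 4 0)

/-- exponents of the relators involving the last generator, and of their conjugates -/
def exp70 : List V5 :=
  err14.map vec5 ++ pres.map fun q => vec5 (err14.getD q.1 [])

/-- exponents of all the relators -/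
def exp143 : List V5 := exp70 ++ exp70.map (fun v => -v) ++ [0, 0, 0]

/-- exponents of all the facts -/
def wts5 : List V5 := cWts.map vec5

variable {K : Type} [Group K] {P : PermData} (M : Perms P K) (hm : M.m = 4)
variable (D : KData K) (hgen : ∀ k : Fin M.m, M.gen k = f4 D.a D.b D.c D.d (Fin.cast hm k))
variable {Q : Type} [Group Q] (φ : K →* Q) (z s t83 t84 t85 t86 : Q)

/-- values of the ten letters -/
def gl (x : Nat) : Q := if x < 8 then φ (lv M.gen x) else if x = 8 then z else z⁻¹

theorem gl_inv : ∀ x < 10, gl M φ z (linvL.getD x 0) = (gl M φ z x)⁻¹ := by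
  intro x hx
  rcases lt_or_ge x 8 with h | h
  · have hl : ∀ y < 8, linvL.getD y 0 = Nat.xor y 1 ∧ Nat.xor y 1 < 8 := by decide +kernel
    rw [gl, gl, if_pos h, (hl x h).1, if_pos (hl x h).2, lv_xor, map_inv]
  · rcases (show x = 8 ∨ x = 9 by omega) with rfl | rfl <;> simp [gl, linvL]

theorem gl_word (w : List Nat) (hw : ∀ x ∈ w, x < 8) :
    (w.map (gl M φ z)).prod = φ (M.val w) := by
  induction w with
  | nil => simp [Perms.val, wv]
  | cons x w ih =>
    obtain ⟨hx, hw'⟩ := List.forall_mem_cons.1 hw
    rw [List.map_cons, List.prod_cons, ih hw', show M.val (x :: w) = lv M.gen x * M.val w by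
      simp [Perms.val, wv], map_mul, gl, if_pos hx]

include hgen in
theorem val_f4 (w : List Nat) : M.val w = wv (f4 D.a D.b D.c D.d) w := by
  induction w with
  | nil => rfl
  | cons x w ih =>
    rw [show M.val (x :: w) = lv M.gen x * M.val w by simp [Perms.val, wv], wv_cons, ih]
    congr 1
    unfold lv
    by_cases h : x / 2 < 4
    · rw [dif_pos (show x / 2 < M.m by rw [hm]; exact h), dif_pos h, hgen]
      rfl
    · rw [dif_neg (show ¬ x / 2 < M.m by rw [hm]; exact h), dif_neg h]

variable (hce : ∀ x ∈ [s, t83, t84, t85, t86], ∀ g, Commute g x)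

/-- the central elements with given exponents -/
noncomputable def chi : Multiplicative V5 →* Q where
  toFun a :=
    s ^ (toAdd a).1 * (t83 ^ (toAdd a).2.1 * (t84 ^ (toAdd a).2.2.1 * (t85 ^ (toAdd a).2.2.2.1 *
      t86 ^ (toAdd a).2.2.2.2)))
  map_one' := by simp
  map_mul' a b := by
    have hc : ∀ x ∈ [s, t83, t84, t85, t86], ∀ (n : ℤ) g, Commute (x ^ n) g := fun x hx n g =>
      ((hce x hx g).zpow_right n).symm
    simp only [toAdd_mul, Prod.fst_add, Prod.snd_add, zpow_add]
    rw [(hc t85 (by simp) (toAdd b).2.2.2.1 _).mul_mul_mul_comm,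
      (hc t84 (by simp) (toAdd b).2.2.1 _).mul_mul_mul_comm,
      (hc t83 (by simp) (toAdd b).2.1 _).mul_mul_mul_comm,
      (hc s (by simp) (toAdd b).1 _).mul_mul_mul_comm]

theorem chi_cen (a : Multiplicative V5) (g : Q) : Commute g (chi s t83 t84 t85 t86 hce a) := by
  have hc : ∀ x ∈ [s, t83, t84, t85, t86], ∀ (n : ℤ), Commute g (x ^ n) := fun x hx n =>
    (hce x hx g).zpow_right n
  exact (hc s (by simp) _).mul_right ((hc t83 (by simp) _).mul_right ((hc t84 (by simp) _).mul_right
    ((hc t85 (by simp) _).mul_right (hc t86 (by simp) _))))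

variable (hR : ZRels (asg D φ z) s t83 t84 t85 t86)

/-- the expected value of a relator -/
noncomputable def ev (v : V5) : Q := chi s t83 t84 t85 t86 hce (ofAdd v)

include hgen hR in
theorem body_val : ∀ i < 14, ((body.getD i []).map (gl M φ z)).prod =
    ev s t83 t84 t85 t86 hce (vec5 (err14.getD i [])) := by
  set g := gl M φ z with hg
  have hinv := gl_inv M φ z
  have hv : ∀ w : List Nat, (∀ x ∈ w, x < 8) → (w.map g).prod = φ (wv (f4 D.a D.b D.c D.d) w) :=
    fun w hw => by rw [gl_word M φ z w hw, val_f4 M hm D hgen]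
  have hZ : g 8 = z := by simp [hg, gl]
  have hZi : g 9 = z⁻¹ := by simp [hg, gl]
  have ha : ∀ {gn : Ly.Gen}, gn ≠ .z → asg D φ z gn = φ (val D.a D.b D.c D.d 1 gn) :=
    fun h => asg_eq D φ z h
  have S : ∀ i < 14, ((struct14.getD i []).map g).prod =
      ev s t83 t84 t85 t86 hce (vec5 (err14.getD i [])) := by
    have h := hR
    obtain ⟨r73, r74, r75, r76, r77, r78, r79, r80, r81, r82, r83, r84, r85, r86⟩ := h
    have hzd : ∀ {gn : Ly.Gen}, gn = .z → asg D φ z gn = z := fun h => by subst h; rfl
    simp (discharger := decide) only [ha, hzd] at r73 r74 r75 r76 r77 r78 r79 r80 r81 r82 r83 r84 r85 r86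
    intro i hi
    have hc := hce s (by simp)
    interval_cases i <;>
      simp (discharger := decide) [struct14, err14, vec5, ev, chi, hZ, hZi, prod_invL g hinv, hv, wv_c1,
        wv_c2, wv_c3, wv_c4, wv_c5, wv_a1, wv_a2, wv_a3, wv_a4, wv_u, wv_x23, wv_x24, wv_x25, wv_x29,
        wv_x47, wv_x96, wv_x129, wv_x162, wv_x163, wv_x164, wv_x165, wv_x166, wv_x167, wv_x168, wv_x169,
        wv_x364, wv_x365, wv_x366, wv_x367, wv_x368, wv_x369, wv_x370, wv_x371, mul_inv_eq_iff_eq_mul,
        ← mul_assoc]
    all_goals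
      first
        | exact r73 | exact r74 | exact r75 | exact r76 | exact r77 | exact r78 | exact r79 | exact r80
        | (rw [← pow_two, r81, (hc _).eq])
        | (rw [← r82]; simp only [pow_three, mul_assoc])
        | (rw [← r83]; done) | (rw [← r84]; done) | (rw [← r85]; done) | (rw [← r86]; done)
  intro i hi
  have hok := okBody_true
  simp only [okBody, List.all_eq_true, List.mem_range, Bool.and_eq_true, beq_iff_eq] at hok
  obtain ⟨hl, he⟩ := hok i hi
  have := congrArg (fun w : List Nat => (w.map g).prod) he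
  simp only [prod_fredL g hinv, List.map_append, List.prod_append, prod_invL g hinv _ hl, S i hi] at this
  rw [mul_inv_eq_iff_eq_mul, ev, ← (chi_cen s t83 t84 t85 t86 hce _ ((cjw.getD i []).map g).prod).eq] at this
  exact mul_left_cancel this

include hgen hR in
theorem rel70_val : rel70.map (fun w => (w.map (gl M φ z)).prod) =
    exp70.map (ev s t83 t84 t85 t86 hce) := by
  have B := body_val M hm D hgen φ z s t83 t84 t85 t86 hce hR
  rw [rel70, exp70, List.map_append, List.map_append]
  congr 1
  · apply List.ext_getElem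
    · simp [body, err14]
    · intro i h1 h2
      have hi : i < 14 := by simpa [body] using h1
      have := B i hi
      rw [List.getD_eq_getElem?_getD, List.getElem?_eq_getElem (by simpa [body] using hi),
        List.getD_eq_getElem?_getD, List.getElem?_eq_getElem (by simpa [err14] using hi)] at this
      simpa using this
  · rw [List.map_map, List.map_map]
    refine List.map_congr_left fun q hq => ?_
    have hok := okPres_true
    simp only [okPres, List.all_eq_true, Bool.and_eq_true, Nat.blt_eq] at hok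
    obtain ⟨⟨h1, h2⟩, -⟩ := hok q hq
    simp only [Function.comp_apply, List.map_append, List.prod_append, B q.1 h1,
      prod_invL _ (gl_inv M φ z) _ h2, ev]
    rw [(chi_cen s t83 t84 t85 t86 hce _ _).eq, mul_inv_cancel_right]

include hgen hR in
theorem rels_val : rels143.map (fun w => (w.map (gl M φ z)).prod) =
    exp143.map (ev s t83 t84 t85 t86 hce) := by
  have R := rel70_val M hm D hgen φ z s t83 t84 t85 t86 hce hR
  have h2 : (rel70.map invL).map (fun w => (w.map (gl M φ z)).prod) =
      (exp70.map fun v => -v).map (ev s t83 t84 t85 t86 hce) := by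
    have h : (rel70.map invL).map (fun w => (w.map (gl M φ z)).prod) =
        (rel70.map fun w => (w.map (gl M φ z)).prod).map (fun x => x⁻¹) := by
      rw [List.map_map, List.map_map]
      refine List.map_congr_left fun w hw => ?_
      exact prod_invL _ (gl_inv M φ z) _ (List.all_eq_true.1 okL_rel70 w hw)
    rw [h, R, List.map_map, List.map_map]
    refine List.map_congr_left fun v _ => ?_
    simp [ev]
  have h0 : ev s t83 t84 t85 t86 hce 0 = 1 := by simp [ev]
  simp only [rels143, exp143, List.map_append, List.map_cons, List.map_nil, R, h2, h0]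
  simp [gl]

include hgen hce hR in
theorem edge_comm : ∀ k < 8,
    φ (M.val (src0.getD k [])) * z = z * φ (M.val (img0.getD k [])) ∧
    φ (M.val (src1.getD k [])) * z⁻¹ = z⁻¹ * φ (M.val (img1.getD k [])) := by
  intro k hk
  set g := gl M φ z with hg
  have hinv := gl_inv M φ z
  have hv : ∀ w : List Nat, (∀ x ∈ w, x < 8) → (w.map g).prod = φ (M.val w) :=
    fun w hw => gl_word M φ z w hw
  have hv' : ∀ w : List Nat, (∀ x ∈ w, x < 8) → (w.map g).prod = φ (wv (f4 D.a D.b D.c D.d) w) :=
    fun w hw => by rw [hv w hw, val_f4 M hm D hgen]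
  have hok := okEdgeW_true
  simp only [okEdgeW, List.all_eq_true, List.mem_range, Bool.and_eq_true, beq_iff_eq, Nat.blt_eq] at hok
  obtain ⟨⟨⟨⟨⟨⟨⟨a0, b0⟩, a1⟩, b1⟩, e0⟩, f0⟩, e1⟩, f1⟩ := hok k hk
  have tr : ∀ {u v : List Nat}, fredL u = fredL v → (u.map g).prod = (v.map g).prod := fun h => by
    rw [← prod_fredL g hinv, h, prod_fredL g hinv]
  rw [← hv _ a0, ← hv _ b0, ← hv _ a1, ← hv _ b1, tr e0, tr f0, tr e1, tr f1]
  obtain ⟨r73, r74, r75, r76, r77, r78, r79, r80, r81, -⟩ := hR
  have ha : ∀ {gn : Ly.Gen}, gn ≠ .z → asg D φ z gn = φ (val D.a D.b D.c D.d 1 gn) :=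
    fun h => asg_eq D φ z h
  have hzd : ∀ {gn : Ly.Gen}, gn = .z → asg D φ z gn = z := fun h => by subst h; rfl
  simp (discharger := decide) only [ha, hzd] at r73 r74 r75 r76 r77 r78 r79 r80 r81
  generalize hU : φ (val D.a D.b D.c D.d 1 .u) = U at r81
  have conj0 : ∀ {x y : Q}, z⁻¹ * x * z = y → x * z = z * y := fun h => by rw [← h]; group
  have conj1 : ∀ {x y : Q}, z⁻¹ * x * z = y → x * z⁻¹ = z⁻¹ * (U * y * U⁻¹) := fun {x y} h => by
    have hs := hce s (by simp)
    have e : U = z ^ 2 * s⁻¹ := by rw [r81, mul_inv_cancel_right]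
    rw [e, ← h, pow_two, mul_inv_rev, inv_inv]
    rw [show z * z * s⁻¹ * (z⁻¹ * x * z) = z * z * (z⁻¹ * x * z) * s⁻¹ by
      rw [mul_assoc (z * z), ((hs _).inv_right).symm.eq, ← mul_assoc]]
    group
  have hiu : ((invL w_u).map g).prod = ((w_u.map g).prod)⁻¹ := prod_invL g hinv _ (by decide)
  interval_cases k <;>
    simp (discharger := decide) only [List.getD_cons_zero, List.getD_cons_succ, List.map_append,
      List.prod_append, hiu] <;>
    simp (discharger := decide) only [hv', wv_c1, wv_c2, wv_c3, wv_c4, wv_c5, wv_a1, wv_a2, wv_a3, wv_u,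
      wv_x162, wv_x163, wv_x164, wv_x165, wv_x166, wv_x167, wv_x168, wv_x169, hU]
  · exact ⟨conj0 r73, conj1 r73⟩
  · exact ⟨conj0 r74, conj1 r74⟩
  · exact ⟨conj0 r75, conj1 r75⟩
  · exact ⟨conj0 r76, conj1 r76⟩
  · exact ⟨conj0 r77, conj1 r77⟩
  · exact ⟨conj0 r78, conj1 r78⟩
  · exact ⟨conj0 r79, conj1 r79⟩
  · exact ⟨conj0 r80, conj1 r80⟩

end CfsgLib.KnownB.LyMult
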