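import Cfsg.Agent.S2100
import Cfsg.Agent.Lib.Steinberg.Multiplier
import Cfsg.Prelude.Def_KGroupFacts

/-!
A group isomorphic to `G₂(5)` is perfect and has trivial multiplier.
-/

set_option autoImplicit false

namespace CfsgLib.KnownB.LyMult

open Cfsg.Lie CfsgLib.Chev

theorem multiplier_of_equiv {G H : Type} [Group G] [Group H] (e : G ≃* H) {n : ℕ}
    (h : Cfsg.HasCyclicSchurMultiplier G n) : Cfsg.HasCyclicSchurMultiplier H n := by
  obtain ⟨⟨Γ, i1, i2, σ, hσ, ⟨k⟩⟩, hall⟩ := h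
  refine ⟨⟨Γ, i1, i2, e.toMonoidHom.comp σ, ?_, ?_⟩, fun Δ _ _ τ hτ => ?_⟩
  · have hk : (e.toMonoidHom.comp σ).ker = σ.ker := by ext x; simp [MonoidHom.mem_ker]
    obtain ⟨a, b, c⟩ := hσ
    exact ⟨e.surjective.comp a, hk ▸ b, hk ▸ c⟩
  · have hk : (e.toMonoidHom.comp σ).ker = σ.ker := by ext x; simp [MonoidHom.mem_ker]
    exact ⟨(MulEquiv.subgroupCongr hk).trans k⟩
  · have hk : (e.symm.toMonoidHom.comp τ).ker = τ.ker := by ext x; simp [MonoidHom.mem_ker]
    obtain ⟨a, b, c⟩ := hτ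
    obtain ⟨π, hπ⟩ := hall Δ (e.symm.toMonoidHom.comp τ)
      ⟨e.symm.surjective.comp a, hk ▸ b, hk ▸ c⟩
    exact ⟨(MulEquiv.subgroupCongr hk).toMonoidHom.comp π,
      (MulEquiv.subgroupCongr hk).surjective.comp hπ⟩

theorem commutator_top_of_surjective {G H : Type*} [Group G] [Group H] (f : G →* H)
    (hf : Function.Surjective f) (h : commutator G = ⊤) : commutator H = ⊤ := by
  rw [_root_.commutator_def] at h ⊢
  have := Subgroup.map_commutator ⊤ ⊤ f
  rw [h, Subgroup.map_top_of_surjective f hf] at this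
  exact this.symm

/-- `⟨a, b, c, d⟩`, being `G₂(5)`, is perfect with trivial multiplier -/
theorem g25_facts {K : Type} [Group K] {F : Type} [Field F] [Fintype F] (hF : Fintype.card F = 5)
    (e : K ≃* chevG2.group F) : commutator K = ⊤ ∧ Cfsg.HasCyclicSchurMultiplier K 1 := by
  have hK5 : ∃ s : Finset F, 4 < s.card := ⟨Finset.univ, by rw [Finset.card_univ]; omega⟩
  refine ⟨?_, multiplier_of_equiv e.symm (Cfsg.Agent.S2100.result (F := F) (by omega))⟩
  obtain ⟨hsurj, -, -⟩ := CfsgLib.Steinberg.presProj_spec (F := F) stdG2 CfsgLib.Steinberg.splitG2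
    (le_refl _) (CfsgLib.Steinberg.relsAB_subset F)
  refine commutator_top_of_surjective e.symm.toMonoidHom e.symm.surjective
    (commutator_top_of_surjective _ hsurj ?_)
  exact CfsgLib.Steinberg.perfect_cover (by simp) fun _ => CfsgLib.Steinberg.exists_third hK5

end CfsgLib.KnownB.LyMult
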