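import Cfsg.Agent.Lib.DCE.Facts

/-!
Facts of a double coset enumeration at the base double coset give equations in `f(H)`, and
permutation representations of products.
-/

set_option autoImplicit false

namespace CfsgLib.KnownB.LyMult

open CfsgLib.DCE CfsgLib.PresCert

variable {S : Setup} {H Q : Type*} [Group H] [Group Q]

/-- a fact `g 0 * p = q * g 0` gives the equation `f p = f q` -/
theorem eq_of_fact (N : Model S H Q) {fs : List Fact} {n : ℕ}
    (h : N.FactOK (Setup.fget fs n)) (hty : (Setup.fget fs n).ty = 0) (hi : (Setup.fget fs n).i = 0) :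
    N.wq (Setup.fget fs n).p = N.wq (Setup.fget fs n).q := by
  have e := h.2.1 hty
  rw [hi, show N.g 0 = 1 by simp [Model.g], one_mul, mul_one] at e
  exact e

/-- rotation by an element of `ZMod q` on `Fin q` -/
def rotHom (q : ℕ) [NeZero q] : Multiplicative (ZMod q) →* Equiv.Perm (ZMod q) where
  toFun a := Equiv.addRight (Multiplicative.toAdd a)
  map_one' := Equiv.ext fun i => by simp
  map_mul' a b := Equiv.ext fun i => by
    simp [add_comm (Multiplicative.toAdd a), add_assoc]

theorem rotHom_injective (q : ℕ) [NeZero q] : Function.Injective (rotHom q) := fun a b h => by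
  have := congrArg (fun σ : Equiv.Perm (ZMod q) => σ 0) h
  simpa [rotHom] using this

variable {K : Type*} [Group K] {α β : Type*}

/-- the action of a product on a sum -/
def sumHom (f : K →* Equiv.Perm α) {A : Type*} [Group A] (g : A →* Equiv.Perm β) :
    K × A →* Equiv.Perm (α ⊕ β) :=
  (Equiv.Perm.sumCongrHom α β).comp (MonoidHom.prodMap f g)

theorem sumHom_inl (f : K →* Equiv.Perm α) {A : Type*} [Group A] (g : A →* Equiv.Perm β)
    (x : K × A) (a : α) : sumHom f g x (Sum.inl a) = Sum.inl (f x.1 a) := rfl

theorem sumHom_inr (f : K →* Equiv.Perm α) {A : Type*} [Group A] (g : A →* Equiv.Perm β)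
    (x : K × A) (b : β) : sumHom f g x (Sum.inr b) = Sum.inr (g x.2 b) := rfl

end CfsgLib.KnownB.LyMult
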