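import Cfsg.Agent.Lib.KnownB.LyMult.Values
import Cfsg.Agent.Lib.KnownB.LyMult.Char
import Cfsg.Agent.Lib.KnownB.J4Mult.Lifting

/-!
Lifts to a stem extension of the presented Lyons group of its generators, with five unknown central
values of relators.
-/

set_option autoImplicit false
set_option maxHeartbeats 1000000

namespace CfsgLib.KnownB.LyMult

open Cfsg.Spor Subgroup

/-- a copy `K` of `⟨a, b, c, d⟩` -/
structure KData (K : Type) [Group K] where
  a : K
  b : K
  c : K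
  d : K
  ψ : K →* Cfsg.Spor.Ly
  inj : Function.Injective ψ
  ha : ψ a = gn .a
  hb : ψ b = gn .b
  hc : ψ c = gn .c
  hd : ψ d = gn .d
  h4 : (val a b c d 1 .a4)⁻¹ * a * val a b c d 1 .a4 = a ^ 5
  b12 : a * val a b c d 1 .a2 * a = val a b c d 1 .a2 * a * val a b c d 1 .a2
  b23 : val a b c d 1 .a2 * val a b c d 1 .a3 * val a b c d 1 .a2 =
    val a b c d 1 .a3 * val a b c d 1 .a2 * val a b c d 1 .a3

/-- the relators which involve `z`, as equations up to five elements -/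
structure ZRels {P : Type*} [Group P] (f : Ly.Gen → P) (s t83 t84 t85 t86 : P) : Prop where
  r73 : (f .z)⁻¹ * f .c1 * f .z = f .x162
  r74 : (f .z)⁻¹ * f .c2 * f .z = f .x163
  r75 : (f .z)⁻¹ * f .c3 * f .z = f .x164
  r76 : (f .z)⁻¹ * f .c4 * f .z = f .x165
  r77 : (f .z)⁻¹ * f .c5 * f .z = f .x166
  r78 : (f .z)⁻¹ * f .a1 * f .z = f .x167
  r79 : (f .z)⁻¹ * f .a2 * f .z = f .x168
  r80 : (f .z)⁻¹ * f .a3 * f .z = f .x169
  r81 : f .z ^ 2 = f .u * s
  r82 : (f .a4 * f .z) ^ 3 * f .u = s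
  r83 : f .x47 * f .z * f .x364 * f .z * f .x368 * f .z = t83
  r84 : (f .z)⁻¹ * f .x24 * (f .z)⁻¹ * f .x369 * f .z * f .x23 * f .z * f .x29 = t84
  r85 : f .z * f .x366 * f .z * f .x365 * (f .z)⁻¹ * f .x367 * (f .z)⁻¹ * f .x370 = t85
  r86 : f .z * f .x96 * f .z * f .x25 * (f .z)⁻¹ * f .x129 * (f .z)⁻¹ * f .x371 = t86

theorem zRels_gn : ZRels gn 1 1 1 1 1 := by
  have h := fun (r : FreeGroup Ly.Gen) (hr : r ∈ Ly.extra) => rel_one hr
  simp only [Ly.extra, List.forall_mem_cons, List.not_mem_nil, false_imp_iff, forall_const, and_true,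
    Ly.a, Ly.b, Ly.c, Ly.d, Ly.z, Ly.e, Ly.a1, Ly.a2, Ly.a3, Ly.a4, Ly.c1, Ly.c2, Ly.c3, Ly.c4, Ly.c5, Ly.u,
    Ly.x23, Ly.x24, Ly.x25, Ly.x29, Ly.x47, Ly.x96, Ly.x129, Ly.x162, Ly.x163, Ly.x164, Ly.x165, Ly.x166,
    Ly.x167, Ly.x168, Ly.x169, Ly.x364, Ly.x365, Ly.x366, Ly.x367, Ly.x368, Ly.x369, Ly.x370, Ly.x371,
    map_mul, map_pow, map_inv, FreeGroup.lift_apply_of, mul_inv_eq_one] at h
  obtain ⟨-, -, -, -, -, -, -, -, -, -, -, -, -, -, -, -, -, -, -, -, -, -, -, -, -, -, -, -, -, -, -, -, -, -,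
    -, -, -, -, -, -, -, -, -, -, -, -, -, -, -, -, -, -, -, -, -, -, -, -, -, -, -, -, -, -, -, -, -, -, -, -,
    -, -, h73, h74, h75, h76, h77, h78, h79, h80, h81, h82, h83, h84, h85, h86⟩ := h
  exact ⟨h73, h74, h75, h76, h77, h78, h79, h80, by rw [mul_one]; exact h81, h82, h83, h84, h85, h86⟩

variable {K : Type} [Group K] (D : KData K)

/-- values in `K` of the generators other than `z` -/
abbrev KData.v (g : Ly.Gen) : K := val D.a D.b D.c D.d 1 g

theorem KData.ψ_v {g : Ly.Gen} (hg : g ≠ .z) : D.ψ (D.v g) = gn g := by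
  rw [gn_eq_val g, ← D.ha, ← D.hb, ← D.hc, ← D.hd, KData.v, map_val]
  cases g <;> first | exact absurd rfl hg | simp only [val]

/-- the assignment in a group with a map from `K` and an element for `z` -/
def asg {P : Type*} [Group P] (φ : K →* P) (z : P) (g : Ly.Gen) : P :=
  val (φ D.a) (φ D.b) (φ D.c) (φ D.d) z g

theorem asg_eq {P : Type*} [Group P] (φ : K →* P) (z : P) {g : Ly.Gen} (hg : g ≠ .z) :
    asg D φ z g = φ (D.v g) := by
  rw [asg, KData.v, map_val]
  cases g <;> first | exact absurd rfl hg | simp only [val]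

variable {Γ : Type} [Group Γ]

/-- There are lifts for which the eight conjugation relations are exact and the remaining six relators
have five central values. -/
theorem exists_lifts (σ : Γ →* Cfsg.Spor.Ly) (hs : Function.Surjective σ) (hc : σ.ker ≤ center Γ)
    (φ : K →* Γ) (hφ : σ.comp φ = D.ψ) :
    ∃ z s t83 t84 t85 t86 : Γ, σ z = gn .z ∧ (∀ x ∈ [s, t83, t84, t85, t86], σ x = 1) ∧
      ZRels (asg D φ z) s t83 t84 t85 t86 := by
  obtain ⟨z0, hz0⟩ := hs (gn .z)
  have cen : ∀ {k : Γ}, σ k = 1 → ∀ g, Commute g k := fun {k} hk g =>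
    Subgroup.mem_center_iff.1 (hc (MonoidHom.mem_ker.2 hk)) g
  have sv : ∀ g, g ≠ Ly.Gen.z → σ (φ (D.v g)) = gn g := fun g hg => by
    rw [← MonoidHom.comp_apply, hφ, D.ψ_v hg]
  have R := zRels_gn
  set f := fun g => φ (D.v g) with hf
  set er := fun g h => (f h)⁻¹ * (z0⁻¹ * f g * z0) with her
  have her1 : ∀ g h, g ≠ Ly.Gen.z → h ≠ Ly.Gen.z → (gn .z)⁻¹ * gn g * gn .z = gn h → σ (er g h) = 1 :=
    fun g h hg hh e => by
      simp only [her, map_mul, map_inv, hz0, hf, sv g hg, sv h hh, e, inv_mul_cancel]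
  have conj : ∀ g h, Conj z0 (f g) (f h) (er g h) := fun g h => by
    simp only [Conj, her]; group
  have c1 := cen (her1 .c1 .x162 (by decide) (by decide) R.r73)
  have c2 := cen (her1 .c2 .x163 (by decide) (by decide) R.r74)
  have c3 := cen (her1 .c3 .x164 (by decide) (by decide) R.r75)
  have c4 := cen (her1 .c4 .x165 (by decide) (by decide) R.r76)
  have c5 := cen (her1 .c5 .x166 (by decide) (by decide) R.r77)
  have a1 := cen (her1 .a1 .x167 (by decide) (by decide) R.r78)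
  have a2 := cen (her1 .a2 .x168 (by decide) (by decide) R.r79)
  have a3 := cen (her1 .a3 .x169 (by decide) (by decide) R.r80)
  set s81 := (f .u)⁻¹ * z0 ^ 2 with hs81
  set s82 := (f .a4 * z0) ^ 3 * f .u with hs82
  have u1 : σ s81 = 1 := by
    simp only [hs81, hf, map_mul, map_inv, map_pow, sv .u (by decide), hz0, R.r81, mul_one, inv_mul_cancel]
  have u2 : σ s82 = 1 := by
    simp only [hs82, hf, map_mul, map_pow, sv .u (by decide), sv .a4 (by decide), hz0]
    exact R.r82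
  have k : ∀ {g h : K}, D.ψ g = D.ψ h → φ g = φ h := fun e => congrArg φ (D.inj e)
  -- the relations of `⟨a, b, c, d⟩` used, inside the presented group
  have r := fun (r : FreeGroup Ly.Gen) (hr : r ∈ Ly.extra) => rel_one hr
  simp only [Ly.extra, List.forall_mem_cons, List.not_mem_nil, false_imp_iff, forall_const, and_true,
    Ly.a, Ly.b, Ly.c, Ly.d, Ly.z, Ly.e, Ly.a1, Ly.a2, Ly.a3, Ly.a4, Ly.c1, Ly.c2, Ly.c3, Ly.c4, Ly.c5, Ly.u,
    Ly.x23, Ly.x24, Ly.x25, Ly.x29, Ly.x47, Ly.x96, Ly.x129, Ly.x162, Ly.x163, Ly.x164, Ly.x165, Ly.x166,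
    Ly.x167, Ly.x168, Ly.x169, Ly.x364, Ly.x365, Ly.x366, Ly.x367, Ly.x368, Ly.x369, Ly.x370, Ly.x371,
    map_mul, map_pow, map_inv, FreeGroup.lift_apply_of, mul_inv_eq_one] at r
  obtain ⟨r1, -, -, -, -, r6, r7, r8, -, r10, r11, -, -, -, -, -, -, -, -, -, -, r22, r23, r24, -, -, -, -, -,
    -, -, -, -, -, -, -, -, -, -, -, -, -, -, -, r45, -, -, -, r49, -, -, -, -, -, -, -, -, -, -, -, -, r62, -⟩ := r
  have sv' : ∀ {g : Ly.Gen}, g ≠ .z → D.ψ (D.v g) = gn g := fun hg => D.ψ_v hg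
  let cj : Cfsg.Spor.Ly →* Cfsg.Spor.Ly := (MulAut.conj (gn .z)⁻¹).toMonoidHom
  have cjd : ∀ g, cj g = (gn .z)⁻¹ * g * gn .z := fun g => by
    simp [cj, MulAut.conj_apply]
  have e167 : gn .x167 = (gn .a1 ^ 3)⁻¹ := by rw [r62, r45]
  have C1 : gn .x162 = cj (gn .c1) := by rw [cjd, R.r73]
  have C2 : gn .x163 = cj (gn .c2) := by rw [cjd, R.r74]
  have C3 : gn .x164 = cj (gn .c3) := by rw [cjd, R.r75]
  have C4 : gn .x165 = cj (gn .c4) := by rw [cjd, R.r76]
  have C5 : gn .x166 = cj (gn .c5) := by rw [cjd, R.r77]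
  have A1 : (gn .a1 ^ 3)⁻¹ = cj (gn .a1) := by rw [cjd, R.r78, e167]
  have A2 : gn .x168 = cj (gn .a2) := by rw [cjd, R.r79]
  have A3 : gn .x169 = cj (gn .a3) := by rw [cjd, R.r80]
  have h167 : f .x167 = (f .a1 ^ 3)⁻¹ := by
    simp only [hf, ← map_pow, ← map_inv]
    refine k ?_
    simp only [map_inv, map_pow, sv' (g := .a1) (by decide), sv' (g := .x167) (by decide), e167]
  have k2 : gn .c2 = (gn .a1)⁻¹ * gn .c1 * gn .a1 := by rw [r7, r6, r45]
  have k22 : (gn .a1)⁻¹ * gn .c2 * gn .a1 = (gn .c1 ^ 2)⁻¹ := by rw [r45, r22]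
  have k3 : (gn .a1)⁻¹ * gn .c3 * gn .a1 = (gn .c3 ^ 2)⁻¹ * gn .c1 * gn .c4 := by rw [r45, r23]
  have k4 : (gn .a1)⁻¹ * gn .c4 * gn .a1 =
      gn .c1 * (gn .c2)⁻¹ * (gn .c3)⁻¹ * gn .c4 * gn .c1 * gn .c4 := by rw [r45, r24]
  have p35 : gn .c3 ^ 5 = 1 := by
    rw [r8, show ((gn .b)⁻¹ * gn .c * gn .b) ^ 5 = (gn .b)⁻¹ * gn .c ^ 5 * gn .b by
      simp only [pow_succ, pow_zero, one_mul]; group, ← r6, r11,
      mul_one, inv_mul_cancel]
  have p8 : gn .a1 ^ 8 = 1 := by rw [r45, r1]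
  have B12 : gn .a1 * gn .a2 * gn .a1 = gn .a2 * gn .a1 * gn .a2 := by
    have e := congrArg D.ψ D.b12
    have ev := fun g h => (sv' (g := g) h)
    simp only [map_mul] at e
    rw [← ev .a2 (by decide), ← ev .a1 (by decide)]
    exact e
  have B23 : gn .a2 * gn .a3 * gn .a2 = gn .a3 * gn .a2 * gn .a3 := by
    have e := congrArg D.ψ D.b23
    simp only [map_mul] at e
    rw [← sv' (g := .a2) (by decide), ← sv' (g := .a3) (by decide)]
    exact e
  have H4 : (gn .a4)⁻¹ * gn .a1 * gn .a4 = gn .a1 ^ 5 := by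
    have e := congrArg D.ψ D.h4
    simp only [map_mul, map_inv, map_pow] at e
    rw [← sv' (g := .a4) (by decide), ← sv' (g := .a1) (by decide)]
    exact e
  have hu : gn .u = gn .a1 ^ 2 := by rw [r49, r45]
  have E : er .a1 .x167 = 1 ∧ er .a2 .x168 = 1 ∧ er .a3 .x169 = 1 ∧ er .c1 .x162 = 1 ∧ er .c2 .x163 = 1 ∧
      er .c3 .x164 = 1 ∧ er .c4 .x165 = 1 ∧ er .c5 .x166 = 1 := by
    refine errors_eq_one z0 (f .u) (f .a1) (f .a2) (f .a3) (f .a4) (f .c1) (f .c2) (f .c3) (f .c4) (f .c5)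
      (f .x168) (f .x169) (f .x162) (f .x163) (f .x164) (f .x165) (f .x166)
      _ _ _ _ _ _ _ _ s81 s82
      (by
        simp only [List.forall_mem_cons, List.not_mem_nil, false_imp_iff, forall_const, and_true]
        exact ⟨a1, a2, a3, c1, c2, c3, c4, c5, cen u1, cen u2⟩)
      (h167 ▸ conj .a1 .x167) (conj .a2 .x168) (conj .a3 .x169) (conj .c1 .x162) (conj .c2 .x163)
      (conj .c3 .x164) (conj .c4 .x165) (conj .c5 .x166) (by rw [hs81, mul_inv_cancel_left])
      ?_ hs82.symm ?_ ?_ ?_ ?_ ?_ ?_ ?_ ?_ ?_ ?_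
      ?_ ?_ ?_ ?_ ?_ ?_ ?_ ?_ ?_ ?_
    all_goals
      simp only [hf, ← map_pow, ← map_inv, ← map_mul]
      first | (rw [← map_one φ]) | skip
      refine k ?_
      simp only [map_mul, map_inv, map_pow, map_one, sv' (g := .u) (by decide), sv' (g := .a1) (by decide),
        sv' (g := .a2) (by decide), sv' (g := .a3) (by decide), sv' (g := .a4) (by decide),
        sv' (g := .c1) (by decide), sv' (g := .c2) (by decide), sv' (g := .c3) (by decide),
        sv' (g := .c4) (by decide), sv' (g := .c5) (by decide), sv' (g := .x162) (by decide),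
        sv' (g := .x163) (by decide), sv' (g := .x164) (by decide), sv' (g := .x165) (by decide),
        sv' (g := .x166) (by decide), sv' (g := .x168) (by decide), sv' (g := .x169) (by decide)]
      first
        | assumption
        | exact r11
        | exact r10
        | (simp only [C1, C2, C3, C4, C5, A1, A2, A3]
           simp only [← map_mul, ← map_inv, ← map_pow]
           first
             | exact congrArg cj k2
             | exact congrArg cj k22
             | exact congrArg cj k3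
             | exact congrArg cj k4
             | exact congrArg cj r10
             | exact congrArg cj B12
             | exact congrArg cj B23
             | (rw [r11, map_one])
             | (rw [p35, map_one]))
  obtain ⟨e1, e2, e3, f1, f2, f3, f4, f5⟩ := E
  -- normalise
  set w := s82⁻¹ * s81 with hw_def
  have hw : σ w = 1 := by rw [hw_def, map_mul, map_inv, u1, u2, inv_one, mul_one]
  have cw := cen hw
  have exact' : ∀ g h, er g h = 1 → (z0 * w)⁻¹ * f g * (z0 * w) = f h := fun g h e => by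
    have hh := conj g h
    rw [Conj, e, mul_one] at hh
    rw [show (z0 * w)⁻¹ * f g * (z0 * w) = w⁻¹ * (z0⁻¹ * f g * z0) * w by group, hh, mul_assoc,
      (cw (f h)).eq, inv_mul_cancel_left]
  have zw : Commute z0 w := cw z0
  have hA : ∀ g, g ≠ Ly.Gen.z → asg D φ (z0 * w) g = f g := fun g hg => asg_eq D φ _ hg
  have hZ : asg D φ (z0 * w) .z = z0 * w := rfl
  set s := s81 ^ 3 * (s82 ^ 2)⁻¹ with hs_def
  have hsu : σ s = 1 := by
    rw [hs_def, map_mul, map_inv, map_pow, map_pow, u1, u2, one_pow, one_pow, inv_one, mul_one]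
  set F := asg D φ (z0 * w) with hF
  refine ⟨z0 * w, s, F .x47 * F .z * F .x364 * F .z * F .x368 * F .z,
    (F .z)⁻¹ * F .x24 * (F .z)⁻¹ * F .x369 * F .z * F .x23 * F .z * F .x29,
    F .z * F .x366 * F .z * F .x365 * (F .z)⁻¹ * F .x367 * (F .z)⁻¹ * F .x370,
    F .z * F .x96 * F .z * F .x25 * (F .z)⁻¹ * F .x129 * (F .z)⁻¹ * F .x371,
    by rw [map_mul, hz0, hw, mul_one], ?_, ?_⟩
  · have sF : ∀ g, σ (F g) = gn g := fun g => by
      by_cases hg : g = .z
      · rw [hg, hZ, map_mul, hz0, hw, mul_one]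
      · rw [hA g hg]; exact sv g hg
    simp only [List.forall_mem_cons, List.not_mem_nil, false_imp_iff, forall_const, and_true, map_mul,
      map_inv, sF]
    exact ⟨hsu, R.r83, R.r84, R.r85, R.r86⟩
  · refine ⟨?_, ?_, ?_, ?_, ?_, ?_, ?_, ?_, ?_, ?_, rfl, rfl, rfl, rfl⟩
    all_goals rw [← hF]
    case refine_1 => rw [hZ, hA _ (by decide), hA _ (by decide)]; exact exact' _ _ f1
    case refine_2 => rw [hZ, hA _ (by decide), hA _ (by decide)]; exact exact' _ _ f2
    case refine_3 => rw [hZ, hA _ (by decide), hA _ (by decide)]; exact exact' _ _ f3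
    case refine_4 => rw [hZ, hA _ (by decide), hA _ (by decide)]; exact exact' _ _ f4
    case refine_5 => rw [hZ, hA _ (by decide), hA _ (by decide)]; exact exact' _ _ f5
    case refine_6 => rw [hZ, hA _ (by decide), hA _ (by decide)]; exact exact' _ _ e1
    case refine_7 => rw [hZ, hA _ (by decide), hA _ (by decide)]; exact exact' _ _ e2
    case refine_8 => rw [hZ, hA _ (by decide), hA _ (by decide)]; exact exact' _ _ e3
    case refine_9 =>
      have h12 : Commute s82⁻¹ s81 := cen u1 _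
      rw [hZ, hA _ (by decide), zw.mul_pow, hw_def, h12.mul_pow, hs_def,
        show z0 ^ 2 = f .u * s81 by rw [hs81, mul_inv_cancel_left], mul_assoc]
      congr 1
      rw [inv_pow, ((cen u1 (s82 ^ 2)⁻¹).pow_right 2).eq, ← mul_assoc, ← pow_succ']
    case refine_10 =>
      have h12 : Commute s82⁻¹ s81 := cen u1 _
      rw [hZ, hA _ (by decide), hA _ (by decide), ← mul_assoc, (cw (f .a4 * z0)).mul_pow, mul_assoc,
        ← ((cw (f .u)).pow_right 3).eq, ← mul_assoc, ← hs82, hw_def, h12.mul_pow, hs_def, ← mul_assoc,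
        ((cen u1 (s82 ^ 2)⁻¹).pow_right 3).symm.eq]
      group

end CfsgLib.KnownB.LyMult
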