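import Cfsg.Agent.Lib.DCE.Facts

/-!
Central exponents along a checked double coset enumeration.

When the relators take values `χ (E r)` in the centre, every checked fact holds up to `χ` of its
exponent, provided the exponents add up along the recorded runs. The addition is a separate check,
independent of the check of the facts.
-/

set_option autoImplicit false

namespace CfsgLib.KnownB.LyMult

open CfsgLib.PresCert CfsgLib.DCE Multiplicative

variable {A : Type*} [AddCommGroup A]

/-- the exponent of a fact -/
def wget (ws : List A) (f : Nat) : A := ws.getD f 0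

/-- the exponent of a run -/
def runWt (ws : List A) : List Step → A
  | [] => 0
  | .lett _ :: t => runWt ws t
  | .stab f fwd :: t => (if fwd then wget ws f else -wget ws f) + runWt ws t
  | .edge f _ :: t => wget ws f + runWt ws t
  | .coin f :: t => wget ws f + runWt ws t

/-- the exponent of fact `n` agrees with its justification -/
noncomputable def okWt [DecidableEq A] (E : Nat → A) (ws : List A) (fs : List Fact) (n : Nat) : Bool :=
  match (Setup.fget fs n).just with
  | .base => decide (wget ws n = 0)
  | .defEdge => decide (wget ws n = 0)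
  | .loop _ _ rel _ _ swap r1 r2 _ =>
    let v := runWt ws r2 + E rel - runWt ws r1
    decide (wget ws n = if swap then -v else v)

/-- The meaning of a setup in a group in which the relators have central values. -/
structure WModel (S : Setup) (A H Q : Type*) [AddCommGroup A] [Group H] [Group Q] where
  M : Perms S.P H
  inj : ∀ h : H, (∀ i : Fin S.P.n, (i : Nat) ∈ S.base → M.act h i = i) → h = 1
  f : H →* Q
  T : Nat → Q
  comm : ∀ e < S.edges.length, ∀ k < (S.edge e).src.length,
    f (M.val ((S.edge e).src.getD k [])) * T e = T e * f (M.val ((S.edge e).img.getD k []))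
  gen' : Nat → Q
  gen'_lt : ∀ x < S.P.g, gen' x = f (M.val [x])
  gen'_let : ∀ x, S.P.g ≤ x → x < S.P.g + S.lets.length →
    gen' x = (f (M.val (S.letE x).2))⁻¹ * T (S.letE x).1 * f (M.val (S.letE x).2)
  gen'_inv : ∀ x < S.P.g + S.lets.length, gen' (S.linv.getD x 0) = (gen' x)⁻¹
  χ : Multiplicative A →* Q
  cen : ∀ a g, Commute g (χ a)
  E : Nat → A
  rels_eq : ∀ r < S.rels.length, ((S.rels.getD r []).map gen').prod = χ (ofAdd (E r))

variable {S : Setup} {H Q : Type*} [Group H] [Group Q] (N : WModel S A H Q)

/-- the central element with a given exponent -/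
def WModel.z (a : A) : Q := N.χ (ofAdd a)

theorem WModel.z_add (a b : A) : N.z (a + b) = N.z a * N.z b := by simp [WModel.z]

theorem WModel.z_neg (a : A) : N.z (-a) = (N.z a)⁻¹ := by simp [WModel.z]

theorem WModel.z_zero : N.z 0 = 1 := by simp [WModel.z]

theorem WModel.z_comm (a : A) (g : Q) : Commute g (N.z a) := N.cen _ g

theorem WModel.z_swap (a : A) (g : Q) : N.z a * g = g * N.z a := ((N.z_comm a g).eq).symm

/-- the image of a word -/
def WModel.wq (w : List Nat) : Q := N.f (N.M.val w)

theorem WModel.wq_append (u w : List Nat) : N.wq (u ++ w) = N.wq u * N.wq w := by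
  simp [WModel.wq, Perms.val_append]

theorem WModel.wq_ivw (w : List Nat) : N.wq (ivw w) = (N.wq w)⁻¹ := by
  simp [WModel.wq, Perms.val_ivw]

theorem WModel.wq_nil : N.wq [] = 1 := by simp [WModel.wq, Perms.val, wv]

/-- representative of an orbit -/
noncomputable def WModel.g : Nat → Q
  | 0 => 1
  | j + 1 =>
    if _h : (S.defs.getD j (0, 0, [])).1 ≤ j then
      WModel.g (S.defs.getD j (0, 0, [])).1 * N.wq (S.defs.getD j (0, 0, [])).2.2 *
        N.T (S.defs.getD j (0, 0, [])).2.1
    else 1
  decreasing_by omega

/-- the value of a state -/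
noncomputable def WModel.sv (s : St) : Q := N.wq s.v * N.g s.i * N.wq s.k

/-- the meaning of a fact with an exponent -/
def WModel.FactOK (F : Fact) (w : A) : Prop :=
  S.okShape F = true ∧
    (F.ty = 0 → N.g F.i * N.wq F.p = N.wq F.q * N.g F.i * N.z w) ∧
    (F.ty = 1 → N.g F.i * N.wq F.r * N.T F.e = N.wq F.p * N.g F.j * N.wq F.q * N.z w) ∧
    (F.ty = 2 → N.g F.i = N.wq F.p * N.g F.j * N.wq F.q * N.z w)

include N in
theorem wsame_wq {u w : List Nat} (hu : ∀ x ∈ u, x < S.P.g) (hw : ∀ x ∈ w, x < S.P.g)
    (h : S.same u w = true) : N.wq u = N.wq w := by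
  simp only [Setup.same, List.all_eq_true, Nat.beq_eq] at h
  refine congrArg N.f ?_
  have key : N.M.val u * (N.M.val w)⁻¹ = 1 := N.inj _ fun i hi => by
    have := h _ hi
    rw [N.M.app_eq u hu, N.M.app_eq w hw] at this
    rw [Perms.act_mul, show N.M.act (N.M.val u) i = N.M.act (N.M.val w) i from Fin.ext this,
      ← Perms.act_mul, mul_inv_cancel, Perms.act_one]
  exact mul_inv_eq_one.1 key

include N in
theorem wcomm_word (e : Nat) (he : e < S.edges.length) : ∀ (wu : List Nat),
    (∀ x ∈ wu, x < (S.edge e).src.length) →
    N.wq (S.srcW e wu) * N.T e = N.T e * N.wq (S.imgW e wu) := by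
  intro wu
  induction wu with
  | nil => simp [Setup.srcW, Setup.imgW, WModel.wq_nil]
  | cons x wu ih =>
    intro h
    obtain ⟨hx, h'⟩ := List.forall_mem_cons.1 h
    simp only [Setup.srcW, Setup.imgW, List.flatMap_cons, WModel.wq_append] at ih ⊢
    rw [mul_assoc, ih h', ← mul_assoc]
    simp only [WModel.wq]
    rw [N.comm e he x hx, mul_assoc]

theorem stab_step {P : Type*} [Group P] {v g p q k c : P} (h : g * p = q * g * c)
    (hc : ∀ x, c * x = x * c) :
    v * g * k = v * q * g * (p⁻¹ * k) * c ∧ v * g * k = v * q⁻¹ * g * (p * k) * c⁻¹ := by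
  constructor
  · have e : g = q * g * c * p⁻¹ := by rw [← h]; group
    conv_lhs => rw [e]
    simp only [mul_assoc, hc]
  · have e : g = q⁻¹ * (g * p) * c⁻¹ := by rw [h]; group
    have hc' : ∀ x, c⁻¹ * x = x * c⁻¹ := fun x => (Commute.inv_left (hc x)).eq
    conv_lhs => rw [e]
    simp only [mul_assoc, hc']

include N in
theorem wrun_sound (hS : S.okSetup = true) {fs : List Fact} {ws : List A} {n : Nat}
    (hfs : ∀ f < n, N.FactOK (Setup.fget fs f) (wget ws f)) :
    ∀ (st : List Step) (ls : List Nat) (s t : St), StOK S s →
      S.run fs n st ls s = some t →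
      StOK S t ∧ N.sv s * (ls.map N.gen').prod = N.sv t * N.z (runWt ws st) := by
  intro st
  induction st with
  | nil =>
    intro ls s t hs h
    simp only [Setup.run] at h
    split at h
    · next hl => cases h; subst hl; simp [hs, runWt, N.z_zero]
    · cases h
  | cons a st ih =>
    intro ls s t hs h
    obtain ⟨hv, hk⟩ := hs
    cases a with
    | lett x =>
      cases ls with
      | nil => simp [Setup.run] at h
      | cons l ls =>
        simp only [Setup.run] at h
        split at h
        · next hx =>
          obtain ⟨rfl, hx⟩ := hx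
          have hk' : ∀ y ∈ s.k ++ [x], y < S.P.g := by
            simpa [or_imp, forall_and] using And.intro hk hx
          obtain ⟨h1, h2⟩ := ih ls ⟨s.v, s.i, s.k ++ [x]⟩ t ⟨hv, hk'⟩ h
          refine ⟨h1, ?_⟩
          rw [runWt, ← h2]
          simp only [WModel.sv, List.map_cons, List.prod_cons, WModel.wq_append, N.gen'_lt x hx]
          simp only [WModel.wq, mul_assoc]
        · cases h
    | stab f fwd =>
      simp only [Setup.run] at h
      split at h
      · next hf =>
        obtain ⟨hf, hty, hi⟩ := hf
        obtain ⟨hsh, h0, -, -⟩ := hfs f hf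
        simp only [Setup.okShape, Bool.and_eq_true] at hsh
        obtain ⟨⟨⟨-, hp⟩, hq⟩, -⟩ := hsh
        have e := h0 hty
        rw [hi] at e
        have hp' := okW_spec hp
        have hq' := okW_spec hq
        obtain ⟨e1, e2⟩ := stab_step (v := N.wq s.v) (k := N.wq s.k) e (N.z_swap _)
        cases fwd with
        | true =>
          simp only [if_true] at h
          obtain ⟨h1, h2⟩ := ih ls _ t
            ⟨by simp only [List.mem_append]; rintro x (hx | hx) <;> [exact hv x hx; exact hq' x hx],
             by simp only [List.mem_append]; rintro x (hx | hx) <;> [exact N.M.ivw_lt hp' x hx; exact hk x hx]⟩ h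
          refine ⟨h1, ?_⟩
          have hs' : N.sv s = N.sv ⟨s.v ++ (Setup.fget fs f).q, s.i, ivw (Setup.fget fs f).p ++ s.k⟩ *
              N.z (wget ws f) := by
            simp only [WModel.sv, WModel.wq_append, WModel.wq_ivw, e1]
          simp only [runWt, if_true]
          rw [add_comm, N.z_add, ← mul_assoc, ← h2, hs', mul_assoc, N.z_swap, ← mul_assoc]
        | false =>
          simp only [Bool.false_eq_true, if_false] at h
          obtain ⟨h1, h2⟩ := ih ls _ t
            ⟨by simp only [List.mem_append]; rintro x (hx | hx) <;> [exact hv x hx; exact N.M.ivw_lt hq' x hx],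
             by simp only [List.mem_append]; rintro x (hx | hx) <;> [exact hp' x hx; exact hk x hx]⟩ h
          refine ⟨h1, ?_⟩
          have hs' : N.sv s = N.sv ⟨s.v ++ ivw (Setup.fget fs f).q, s.i, (Setup.fget fs f).p ++ s.k⟩ *
              N.z (-wget ws f) := by
            simp only [WModel.sv, WModel.wq_append, WModel.wq_ivw, e2, N.z_neg]
          simp only [runWt, Bool.false_eq_true, if_false]
          rw [add_comm, N.z_add, ← mul_assoc, ← h2, hs', mul_assoc, N.z_swap, ← mul_assoc]
      · cases h
    | edge f wu =>
      cases ls with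
      | nil => simp [Setup.run] at h
      | cons l ls =>
        simp only [Setup.run] at h
        split at h
        · next hc =>
          obtain ⟨hf, hty, hi, hl1, hl2, he, hwu, hsame⟩ := hc
          obtain ⟨hsh, -, h1', -⟩ := hfs f hf
          simp only [Setup.okShape, Bool.and_eq_true] at hsh
          obtain ⟨⟨⟨-, hp⟩, hq⟩, hr⟩ := hsh
          have e := h1' hty
          rw [hi, he] at e
          simp only [List.all_eq_true, Nat.blt_eq] at hwu
          obtain ⟨hsrc, himg⟩ := srcImg_lt hS (S.letE l).1 wu
          have hc := letW_lt hS l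
          have hsame' := wsame_wq N
            (by simp only [List.mem_append]; rintro x (hx | hx) <;> [exact hk x hx; exact N.M.ivw_lt hc x hx])
            (by simp only [List.mem_append]; rintro x (hx | hx) <;> [exact okW_spec hr x hx; exact hsrc x hx]) hsame
          simp only [WModel.wq_append, WModel.wq_ivw] at hsame'
          obtain ⟨g1, g2⟩ := ih ls _ t
            ⟨by simp only [List.mem_append]; rintro x (hx | hx) <;> [exact hv x hx; exact okW_spec hp x hx],
             by simp only [List.mem_append]; rintro x (hx | hx | hx) <;>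
               [exact okW_spec hq x hx; exact himg x hx; exact hc x hx]⟩ h
          refine ⟨g1, ?_⟩
          have hs' : N.sv s * N.gen' l = N.sv ⟨s.v ++ (Setup.fget fs f).p, (Setup.fget fs f).j,
              (Setup.fget fs f).q ++ (S.imgW (S.letE l).1 wu ++ (S.letE l).2)⟩ * N.z (wget ws f) := by
            have m := edge_move (v := N.wq s.v) (gi := N.g s.i) hsame'
              (wcomm_word N _ (letE_lt hS hl1 hl2) wu hwu) (e.trans (mul_assoc _ _ _))
            simp only [WModel.sv, WModel.wq_append, N.gen'_let l hl1 hl2]
            rw [show (N.f (N.M.val (S.letE l).2)) = N.wq (S.letE l).2 from rfl, m]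
            simp only [mul_assoc, N.z_swap]
          simp only [runWt]
          rw [add_comm, N.z_add, ← mul_assoc, ← g2, List.map_cons, List.prod_cons, ← mul_assoc, hs', mul_assoc,
            N.z_swap, ← mul_assoc]
        · cases h
    | coin f =>
      simp only [Setup.run] at h
      split at h
      · next hc =>
        obtain ⟨hf, hty, hi⟩ := hc
        obtain ⟨hsh, -, -, h2'⟩ := hfs f hf
        simp only [Setup.okShape, Bool.and_eq_true] at hsh
        obtain ⟨⟨⟨-, hp⟩, hq⟩, -⟩ := hsh
        have e := h2' hty
        rw [hi] at e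
        obtain ⟨g1, g2⟩ := ih ls _ t
          ⟨by simp only [List.mem_append]; rintro x (hx | hx) <;> [exact hv x hx; exact okW_spec hp x hx],
           by simp only [List.mem_append]; rintro x (hx | hx) <;> [exact okW_spec hq x hx; exact hk x hx]⟩ h
        refine ⟨g1, ?_⟩
        have hs' : N.sv s = N.sv ⟨s.v ++ (Setup.fget fs f).p, (Setup.fget fs f).j, (Setup.fget fs f).q ++ s.k⟩ *
            N.z (wget ws f) := by
          simp only [WModel.sv, WModel.wq_append, e, mul_assoc, N.z_swap]
        simp only [runWt]
        rw [add_comm, N.z_add, ← mul_assoc, ← g2, hs', mul_assoc, N.z_swap, ← mul_assoc]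
      · cases h

include N in
theorem winvAll_prod : ∀ w : List Nat, (∀ x ∈ w, x < S.P.g + S.lets.length) →
    ((S.invAll w).map N.gen').prod = ((w.map N.gen').prod)⁻¹ := by
  intro w
  induction w with
  | nil => simp [Setup.invAll]
  | cons x w ih =>
    intro hw
    obtain ⟨hx, hw'⟩ := List.forall_mem_cons.1 hw
    simp only [Setup.invAll, List.reverse_cons, List.map_append, List.map_cons, List.map_nil,
      List.prod_append, List.prod_cons, List.prod_nil, mul_one, mul_inv_rev] at ih ⊢
    rw [ih hw', N.gen'_inv x hx]

theorem rot_central {P : Type*} [Group P] (f : Nat → P) (w : List Nat) (i : Nat) {c : P}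
    (hc : ∀ g, Commute g c) (h : (w.map f).prod = c) : ((w.drop i ++ w.take i).map f).prod = c := by
  rw [← List.take_append_drop i w, List.map_append, List.prod_append] at h
  rw [List.map_append, List.prod_append]
  generalize ((w.take i).map f).prod = a at h ⊢
  generalize ((w.drop i).map f).prod = b at h ⊢
  calc b * a = a⁻¹ * (a * b) * a := by group
    _ = a⁻¹ * (c * a) := by rw [h, mul_assoc]
    _ = c := by rw [← (hc a).eq, inv_mul_cancel_left]

include N in
theorem wfact_sound [DecidableEq A] (hS : S.okSetup = true) {fs : List Fact} {ws : List A} {n : Nat}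
    (h : S.okFact fs n = true) (hw : okWt N.E ws fs n = true)
    (hfs : ∀ f < n, N.FactOK (Setup.fget fs f) (wget ws f)) :
    N.FactOK (Setup.fget fs n) (wget ws n) := by
  unfold Setup.okFact at h
  unfold okWt at hw
  generalize wget ws n = wn at hw ⊢
  generalize Setup.fget fs n = F at h hw ⊢
  simp only [Bool.and_eq_true] at h
  obtain ⟨hsh, h⟩ := h
  have hsh' := hsh
  simp only [Setup.okShape, Bool.and_eq_true, Nat.ble_eq] at hsh
  obtain ⟨⟨⟨⟨⟨⟨hty, -⟩, -⟩, -⟩, hp⟩, hq⟩, hr⟩ := hsh
  refine ⟨hsh', ?_⟩
  cases hj : F.just with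
  | base =>
    simp only [hj, decide_eq_true_eq] at h hw
    obtain ⟨h0, hi, hpq⟩ := h
    refine ⟨fun _ => ?_, fun e => absurd (h0.symm.trans e) (by omega),
      fun e => absurd (h0.symm.trans e) (by omega)⟩
    rw [hi, hpq, hw, N.z_zero]
    simp [WModel.g]
  | defEdge =>
    simp only [hj, decide_eq_true_eq] at h hw
    obtain ⟨h1, hj0, hp0, hq0, hd⟩ := h
    refine ⟨fun e => absurd (h1.symm.trans e) (by omega), fun _ => ?_,
      fun e => absurd (h1.symm.trans e) (by omega)⟩
    obtain ⟨j, hj'⟩ : ∃ j, F.j = j + 1 := ⟨F.j - 1, by omega⟩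
    rw [hj', Nat.add_sub_cancel] at hd
    have hg : S.defs.getD j (0, 0, []) = (F.i, F.e, F.r) := by
      rw [List.getD_eq_getElem?_getD, hd]; rfl
    have hle : F.i ≤ j := by
      have := hS
      simp only [Setup.okSetup, Bool.and_eq_true] at this
      have h' := allBelow_spec this.2 j (by
        rcases lt_or_ge j S.defs.length with hl | hl
        · exact hl
        · rw [List.getElem?_eq_none hl] at hd; cases hd)
      simp only [Bool.and_eq_true, Nat.ble_eq] at h'
      rw [show (S.defs.getD j (nat_lit 0, nat_lit 0, [])) = (F.i, F.e, F.r) from hg] at h'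
      exact h'.1.1
    rw [hp0, hq0, WModel.wq_nil, one_mul, mul_one, hj', WModel.g, dif_pos (by rw [hg]; exact hle), hg, hw,
      N.z_zero, mul_one]
  | loop start k rel rot lp swap r1 r2 gap =>
    simp only [hj] at h hw
    generalize hww : (S.rels.getD rel []).drop rot ++ (S.rels.getD rel []).take rot = w at h
    simp only [Bool.and_eq_true, decide_eq_true_eq] at h hw
    obtain ⟨⟨hrel, hstart, hk, hlp, hlp1⟩, h⟩ := h
    have hwlt : ∀ x ∈ w, x < S.P.g + S.lets.length := by
      subst hww
      intro x hx
      simp only [List.mem_append] at hx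
      rcases hx with hx | hx
      · exact letters_lt hS hrel x (List.mem_of_mem_drop hx)
      · exact letters_lt hS hrel x (List.mem_of_mem_take hx)
    have hw1 : (w.map N.gen').prod = N.z (N.E rel) := by
      subst hww
      exact rot_central _ _ _ (N.cen _) (N.rels_eq rel hrel)
    split at h
    next A0 B0 hA hB =>
      have hs0 : StOK S ⟨[], start, k⟩ := ⟨by simp, okW_spec hk⟩
      obtain ⟨okA, eA⟩ := wrun_sound N hS hfs r1 _ _ _ hs0 hA
      obtain ⟨okB, eB⟩ := wrun_sound N hS hfs r2 _ _ _ hs0 hB
      rw [winvAll_prod N] at eB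
      swap
      · intro x hx
        split_ifs at hx <;> exact hwlt x (List.mem_of_mem_drop hx)
      simp only [Bool.and_eq_true, decide_eq_true_eq] at h
      obtain ⟨⟨⟨hAi, hBj⟩, hv⟩, h⟩ := h
      generalize hA' : (if swap then B0 else A0) = A1 at hAi hBj hv h
      generalize hB' : (if swap then A0 else B0) = B1 at hAi hBj hv h
      have okA' : StOK S A1 := by subst hA'; cases swap <;> assumption
      have okB' : StOK S B1 := by subst hB'; cases swap <;> assumption
      have hvw : N.wq (ivw A1.v ++ B1.v) = N.wq (if F.ty = 0 then F.q else F.p) :=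
        wsame_wq N (wordLt_append (N.M.ivw_lt okA'.1) okB'.1)
          (by split_ifs <;> [exact okW_spec hq; exact okW_spec hp]) hv
      simp only [WModel.wq_append, WModel.wq_ivw] at hvw
      set v := runWt ws r2 + N.E rel - runWt ws r1 with hvdef
      -- the run equation
      have key : ∀ (x : Q) (a b : List Nat), ((a.map N.gen').prod * x * (b.map N.gen').prod = N.z (N.E rel)) →
          N.sv ⟨[], start, k⟩ * (a.map N.gen').prod = N.sv A0 * N.z (runWt ws r1) →
          N.sv ⟨[], start, k⟩ * (b.map N.gen').prod⁻¹ = N.sv B0 * N.z (runWt ws r2) →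
          N.sv A0 * x = N.sv B0 * N.z v := by
        intro x a b hab ha hb
        rw [hvdef, sub_eq_add_neg, N.z_add, N.z_add, N.z_neg]
        have hx : (a.map N.gen').prod * x = N.z (N.E rel) * (b.map N.gen').prod⁻¹ :=
          eq_mul_inv_of_mul_eq hab
        calc N.sv A0 * x = N.sv A0 * N.z (runWt ws r1) * (N.z (runWt ws r1))⁻¹ * x := by group
          _ = N.sv ⟨[], start, k⟩ * (a.map N.gen').prod * x * (N.z (runWt ws r1))⁻¹ := by
            rw [← ha, mul_assoc, ← ((N.z_comm _ x).inv_right).eq, ← mul_assoc]
          _ = N.sv ⟨[], start, k⟩ * (b.map N.gen').prod⁻¹ * N.z (N.E rel) * (N.z (runWt ws r1))⁻¹ := by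
            rw [mul_assoc (N.sv ⟨[], start, k⟩), hx, N.z_swap, ← mul_assoc]
          _ = _ := by rw [hb]; simp only [mul_assoc]
      by_cases h1 : F.ty = 1
      · refine ⟨fun e => absurd (h1.symm.trans e) (by omega), fun _ => ?_,
          fun e => absurd (h1.symm.trans e) (by omega)⟩
        simp only [h1, if_true, Bool.and_eq_true, decide_eq_true_eq] at h eB
        rw [if_neg (by omega)] at hvw
        obtain ⟨⟨⟨⟨hl1, hl2, hle⟩, hgap⟩, hsA⟩, hsB⟩ := h
        have hlp' := hlp1 h1
        set l0 := w.getD lp 0 with hl0
        set l := if swap then S.linv.getD l0 0 else l0 with hl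
        have hl0lt : l0 < S.P.g + S.lets.length := by
          rw [hl0, List.getD_eq_getElem?_getD, List.getElem?_eq_getElem hlp']
          exact hwlt _ (List.getElem_mem hlp')
        have hsplit : (w.map N.gen').prod = ((w.take lp).map N.gen').prod * N.gen' l0 *
            ((w.drop (lp + 1)).map N.gen').prod := by
          conv_lhs => rw [← List.take_append_drop lp w, List.drop_eq_getElem_cons hlp']
          rw [List.map_append, List.prod_append, List.map_cons, List.prod_cons, hl0,
            List.getD_eq_getElem?_getD, List.getElem?_eq_getElem hlp', Option.getD_some, mul_assoc]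
        have e0 := key _ _ _ (hsplit.symm.trans hw1) eA eB
        have e1 : N.sv A1 * N.gen' l = N.sv B1 * N.z wn := by
          rw [hl, ← hA', ← hB', hw]
          cases swap with
          | true =>
            simp only [if_true]
            rw [N.gen'_inv l0 hl0lt, N.z_neg]
            rw [show N.sv B0 = N.sv A0 * N.gen' l0 * (N.z v)⁻¹ by rw [e0, mul_inv_cancel_right],
              mul_assoc _ _ (N.gen' l0)⁻¹, ← ((N.z_comm _ _).inv_right).eq, ← mul_assoc, mul_inv_cancel_right]
          | false => simpa using e0
        simp only [List.all_eq_true, Nat.blt_eq] at hgap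
        obtain ⟨hsrc, himg⟩ := srcImg_lt hS (S.letE l).1 gap
        have hc := letW_lt hS l
        have hkA := wsame_wq N (wordLt_append okA'.2 (N.M.ivw_lt hc))
          (wordLt_append (okW_spec hr) hsrc) hsA
        have hkB := wsame_wq N
          (wordLt_append okB'.2 (wordLt_append (N.M.ivw_lt hc) (N.M.ivw_lt himg)))
          (okW_spec hq) hsB
        simp only [WModel.wq_append, WModel.wq_ivw] at hkA hkB
        simp only [WModel.sv, hAi, hBj, N.gen'_let l hl1 hl2] at e1
        rw [mul_assoc _ (N.wq B1.k), ← N.z_swap wn] at e1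
        have := edge_concl e1 hkA (wcomm_word N _ (letE_lt hS hl1 hl2) gap hgap) hvw
          (by rw [mul_assoc]; exact congrArg _ hkB :
            N.z wn * N.wq B1.k * _ = N.z wn * N.wq F.q)
        rw [hle] at this
        rw [this, N.z_swap wn, ← mul_assoc]
      · simp only [h1, if_false] at eB
        have e0 : N.sv A0 = N.sv B0 * N.z v := by
          have := key 1 (w.take lp) (w.drop lp)
            (by rw [mul_one, ← List.prod_append, ← List.map_append, List.take_append_drop]; exact hw1) eA eB
          rwa [mul_one] at this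
        have e1 : N.sv A1 = N.sv B1 * N.z wn := by
          subst hA' hB'
          rw [hw]
          cases swap <;> simp [e0, N.z_neg]
        simp only [WModel.sv, hAi, hBj] at e1
        rw [mul_assoc _ (N.wq B1.k), ← N.z_swap wn] at e1
        refine ⟨fun h0 => ?_, fun e => absurd e h1, fun h2 => ?_⟩
        · simp only [h0, Bool.and_eq_true, decide_eq_true_eq] at h
          rw [if_pos h0] at hvw
          obtain ⟨hij, hs⟩ := h
          have hkk := wsame_wq N (wordLt_append okA'.2 (N.M.ivw_lt okB'.2)) (okW_spec hp) hs
          simp only [WModel.wq_append, WModel.wq_ivw] at hkk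
          rw [← hij] at e1
          have := stab_concl e1 (rfl : N.wq A1.k * (N.z wn * N.wq B1.k)⁻¹ = _) hvw
          rw [mul_inv_rev, ← mul_assoc (N.wq A1.k), hkk, ← mul_assoc, mul_inv_eq_iff_eq_mul] at this
          exact this
        · simp only [h2] at h
          rw [if_neg (by omega)] at hvw
          have hkk := wsame_wq N (wordLt_append okB'.2 (N.M.ivw_lt okA'.2)) (okW_spec hq) h
          simp only [WModel.wq_append, WModel.wq_ivw] at hkk
          have := coin_concl e1 hvw (by rw [mul_assoc, hkk] : N.z wn * N.wq B1.k * _ = N.z wn * N.wq F.q)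
          rw [this, N.z_swap wn, ← mul_assoc]
    next => simp at h

include N in
theorem wfacts_sound [DecidableEq A] (hS : S.okSetup = true) (fs : List Fact) (ws : List A)
    (h : ∀ n < fs.length, S.okFact fs n = true) (hw : ∀ n < fs.length, okWt N.E ws fs n = true) :
    ∀ n < fs.length, N.FactOK (Setup.fget fs n) (wget ws n) := by
  intro n
  induction n using Nat.strong_induction_on with
  | _ n ih =>
    intro hn
    exact wfact_sound N hS (h n hn) (hw n hn) fun f hf => ih f hf (hf.trans hn)

include N in
/-- a fact `g 0 * p = q * g 0` with `p = q` in `H` kills its exponent -/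
theorem z_eq_one_of_fact {F : Fact} {w : A} (h : N.FactOK F w) (hty : F.ty = 0) (hi : F.i = 0)
    (hpq : S.same F.p F.q = true) : N.z w = 1 := by
  have hsh := h.1
  simp only [Setup.okShape, Bool.and_eq_true] at hsh
  obtain ⟨⟨⟨-, hp⟩, hq⟩, -⟩ := hsh
  have e := h.2.1 hty
  rw [hi, show N.g 0 = 1 by simp [WModel.g], one_mul, mul_one, wsame_wq N (okW_spec hp) (okW_spec hq) hpq] at e
  exact (mul_eq_left.1 e.symm)

end CfsgLib.KnownB.LyMult
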